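import Cfsg.Agent.OD.Pre
import Cfsg.Agent.H6.TCTop
import Cfsg.Agent.H6.J3T1.D0
set_option autoImplicit false
set_option maxRecDepth 100000
set_option Elab.async false
set_option linter.all false
namespace CfH6.J3T1
open CfH6
noncomputable def tab0 : Tr := (Tr.n (Tr.n (Tr.n t0 t1) (Tr.n t2 t3)) (Tr.n (Tr.n t4 t5) (Tr.n t6 t7)))
noncomputable def tab1 : Tr := (Tr.n (Tr.n (Tr.n t8 t9) (Tr.n t10 t11)) (Tr.n (Tr.n t12 t13) (Tr.n t14 t15)))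
noncomputable def tab2 : Tr := (Tr.n (Tr.n (Tr.n t16 t17) (Tr.n t18 t19)) (Tr.n (Tr.n t20 t21) (Tr.n t22 t23)))
noncomputable def tab3 : Tr := (Tr.n (Tr.n (Tr.n t24 t25) (Tr.n t26 t27)) (Tr.n (Tr.n t28 t29) (Tr.n t30 t31)))
noncomputable def tab4 : Tr := (Tr.n (Tr.n (Tr.n t32 t33) (Tr.n t34 t35)) (Tr.n (Tr.n t36 t37) (Tr.n t38 t39)))
noncomputable def tab5 : Tr := (Tr.n (Tr.n (Tr.n t40 t41) (Tr.n t42 t43)) (Tr.n (Tr.n t44 t45) (Tr.n t46 t47)))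
noncomputable def tab6 : Tr := (Tr.n (Tr.n (Tr.n t48 t49) (Tr.n t50 t51)) (Tr.n (Tr.n t52 t53) (Tr.n t54 t55)))
noncomputable def tab7 : Tr := (Tr.n (Tr.n (Tr.n t56 t57) (Tr.n t58 t59)) (Tr.n (Tr.n t60 t61) (Tr.n t62 t63)))
noncomputable def tab8 : Tr := (Tr.n (Tr.n (Tr.n t64 t65) (Tr.n t66 t67)) (Tr.n (Tr.n t68 t69) (Tr.n t70 t71)))
noncomputable def tab9 : Tr := (Tr.n (Tr.n (Tr.n t72 t73) (Tr.n t74 t75)) (Tr.n (Tr.n t76 t77) (Tr.n t78 t79)))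
noncomputable def tab10 : Tr := (Tr.n (Tr.n (Tr.n t80 t81) (Tr.n t82 t83)) (Tr.n (Tr.n t84 t85) (Tr.n t86 t87)))
noncomputable def tab11 : Tr := (Tr.n (Tr.n (Tr.n t88 t89) (Tr.n t90 t91)) (Tr.n (Tr.n t92 t93) (Tr.n t94 t95)))
noncomputable def tab12 : Tr := (Tr.n (Tr.n (Tr.n t96 t97) (Tr.n t98 t99)) (Tr.n (Tr.n t100 t101) (Tr.n t102 t103)))
noncomputable def tab13 : Tr := (Tr.n (Tr.n (Tr.n t104 t105) (Tr.n t106 t107)) (Tr.n (Tr.n t108 t109) (Tr.n t110 t111)))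
noncomputable def tab14 : Tr := (Tr.n (Tr.n (Tr.n t112 t113) (Tr.n t114 t115)) (Tr.n (Tr.n t116 t117) (Tr.n t118 t119)))
noncomputable def tab15 : Tr := (Tr.n (Tr.n (Tr.n t120 t121) (Tr.n t122 t123)) (Tr.n (Tr.n t124 t125) (Tr.n t126 t127)))
noncomputable def tab16 : Tr := (Tr.n (Tr.n (Tr.n t128 t129) (Tr.n t130 t131)) (Tr.n (Tr.n t132 t133) (Tr.n t134 t135)))
noncomputable def tab17 : Tr := (Tr.n (Tr.n (Tr.n t136 t137) (Tr.n t138 t139)) (Tr.n (Tr.n t140 t141) (Tr.n t142 t143)))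
noncomputable def tab18 : Tr := (Tr.n (Tr.n (Tr.n t144 t145) (Tr.n t146 t147)) (Tr.n (Tr.n t148 t149) (Tr.n t150 t151)))
noncomputable def tab19 : Tr := (Tr.n (Tr.n (Tr.n t152 t153) (Tr.n t154 t155)) (Tr.n (Tr.n t156 t157) (Tr.n t158 t159)))
noncomputable def tab20 : Tr := (Tr.n (Tr.n (Tr.n t160 t161) (Tr.n t162 t163)) (Tr.n (Tr.n t164 t165) (Tr.n t166 t167)))
noncomputable def tab21 : Tr := (Tr.n (Tr.n (Tr.n t168 t169) (Tr.n t170 t171)) (Tr.n (Tr.n t172 t173) (Tr.n t174 t175)))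
noncomputable def tab22 : Tr := (Tr.n (Tr.n (Tr.n t176 t177) (Tr.n t178 t179)) (Tr.n (Tr.n t180 t181) (Tr.n t182 t183)))
noncomputable def tab23 : Tr := (Tr.n (Tr.n (Tr.n t184 t185) (Tr.n t186 t187)) (Tr.n (Tr.n t188 t189) (Tr.n t190 t191)))
noncomputable def tab24 : Tr := (Tr.n (Tr.n (Tr.n t192 t193) (Tr.n t194 t195)) (Tr.n (Tr.n t196 t197) (Tr.n t198 t199)))
noncomputable def tab25 : Tr := (Tr.n (Tr.n (Tr.n t200 t201) (Tr.n t202 t203)) (Tr.n (Tr.n t204 t205) (Tr.n t206 t207)))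
noncomputable def tab26 : Tr := (Tr.n (Tr.n (Tr.n t208 t209) (Tr.n t210 t211)) (Tr.n (Tr.n t212 t213) (Tr.n t214 t215)))
noncomputable def tab27 : Tr := (Tr.n (Tr.n (Tr.n t216 t217) (Tr.n t218 t219)) (Tr.n (Tr.n t220 t221) (Tr.n t222 t223)))
noncomputable def tab28 : Tr := (Tr.n (Tr.n (Tr.n t224 t225) (Tr.n t226 t227)) (Tr.n (Tr.n t228 t229) (Tr.n t230 t231)))
noncomputable def ty0 : TT := (TT.n (TT.n (TT.n (TT.n (TT.n (TT.n (TT.l (Ty.ssub [] []))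
 (TT.l (Ty.srel [nat_lit 5, nat_lit 0, nat_lit 5])))
 (TT.n (TT.l (Ty.rel3 (nat_lit 5) (nat_lit 0) (nat_lit 5)))
 (TT.l (Ty.srel [nat_lit 1, nat_lit 4, nat_lit 1, nat_lit 4]))))
 (TT.n (TT.n (TT.l (Ty.rel3 (nat_lit 4) (nat_lit 0) (nat_lit 4)))
 (TT.l (Ty.srel [nat_lit 4, nat_lit 2, nat_lit 4, nat_lit 2])))
 (TT.n (TT.l (Ty.srel [nat_lit 2, nat_lit 0, nat_lit 2]))
 (TT.l (Ty.srel [nat_lit 1, nat_lit 5, nat_lit 1, nat_lit 5])))))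
 (TT.n (TT.n (TT.n (TT.l (Ty.rel3 (nat_lit 7) (nat_lit 0) (nat_lit 7)))
 (TT.l (Ty.relL (nat_lit 2) [nat_lit 5, nat_lit 2, nat_lit 5])))
 (TT.n (TT.l (Ty.relL (nat_lit 4) [nat_lit 3, nat_lit 4, nat_lit 3]))
 (TT.l (Ty.srel [nat_lit 10, nat_lit 5, nat_lit 11, nat_lit 5]))))
 (TT.n (TT.n (TT.l (Ty.rel3 (nat_lit 8) (nat_lit 0) (nat_lit 9)))
 (TT.l (Ty.relL (nat_lit 4) [nat_lit 1, nat_lit 4, nat_lit 1])))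
 (TT.l (Ty.srel [nat_lit 6, nat_lit 0, nat_lit 6])))))
 (TT.n (TT.n (TT.n (TT.n (TT.l (Ty.relL (nat_lit 5) [nat_lit 10, nat_lit 5, nat_lit 11]))
 (TT.l (Ty.relL (nat_lit 5) [nat_lit 2, nat_lit 5, nat_lit 2])))
 (TT.n (TT.l (Ty.srel [nat_lit 4, nat_lit 0, nat_lit 4]))
 (TT.l (Ty.relL (nat_lit 1) [nat_lit 2, nat_lit 1, nat_lit 2]))))
 (TT.n (TT.n (TT.l (Ty.rel1 (nat_lit 0)))
 (TT.l (Ty.relL (nat_lit 3) [nat_lit 2, nat_lit 3, nat_lit 2])))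
 (TT.n (TT.l (Ty.srel [nat_lit 3, nat_lit 0, nat_lit 3]))
 (TT.l (Ty.skip)))))
 (TT.n (TT.n (TT.n (TT.l (Ty.rel3 (nat_lit 2) (nat_lit 0) (nat_lit 2)))
 (TT.l (Ty.srel [nat_lit 2, nat_lit 1, nat_lit 2, nat_lit 1])))
 (TT.n (TT.l (Ty.relL (nat_lit 2) [nat_lit 3, nat_lit 2, nat_lit 3]))
 (TT.l (Ty.srel [nat_lit 3, nat_lit 5, nat_lit 3, nat_lit 5]))))
 (TT.n (TT.n (TT.l (Ty.srel [nat_lit 7, nat_lit 0, nat_lit 7]))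
 (TT.l (Ty.srel [nat_lit 11, nat_lit 5, nat_lit 10])))
 (TT.l (Ty.relL (nat_lit 3) [nat_lit 5, nat_lit 3, nat_lit 5]))))))
 (TT.n (TT.n (TT.n (TT.n (TT.n (TT.l (Ty.rel3 (nat_lit 11) (nat_lit 5) (nat_lit 10)))
 (TT.l (Ty.relL (nat_lit 2) [nat_lit 1, nat_lit 2, nat_lit 1])))
 (TT.n (TT.l (Ty.dfn))
 (TT.l (Ty.srel [nat_lit 4, nat_lit 3, nat_lit 4, nat_lit 3]))))
 (TT.n (TT.n (TT.l (Ty.rel3 (nat_lit 6) (nat_lit 0) (nat_lit 6)))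
 (TT.l (Ty.relL (nat_lit 1) [nat_lit 5, nat_lit 1, nat_lit 5])))
 (TT.n (TT.l (Ty.srel [nat_lit 1, nat_lit 0, nat_lit 1]))
 (TT.l (Ty.srel [nat_lit 2, nat_lit 4, nat_lit 2, nat_lit 4])))))
 (TT.n (TT.n (TT.n (TT.l (Ty.rel3 (nat_lit 1) (nat_lit 0) (nat_lit 1)))
 (TT.l (Ty.relL (nat_lit 5) [nat_lit 3, nat_lit 5, nat_lit 3])))
 (TT.n (TT.l (Ty.srel [nat_lit 5, nat_lit 10, nat_lit 5, nat_lit 11]))
 (TT.l (Ty.relL (nat_lit 3) [nat_lit 4, nat_lit 3, nat_lit 4]))))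
 (TT.n (TT.n (TT.l (Ty.srel [nat_lit 0]))
 (TT.l (Ty.relL (nat_lit 1) [nat_lit 3, nat_lit 1, nat_lit 3])))
 (TT.l (Ty.relL (nat_lit 5) [nat_lit 4, nat_lit 5, nat_lit 4])))))
 (TT.n (TT.n (TT.n (TT.n (TT.l (Ty.rel3 (nat_lit 12) (nat_lit 6) (nat_lit 12)))
 (TT.l (Ty.relL (nat_lit 3) [nat_lit 1, nat_lit 3, nat_lit 1])))
 (TT.n (TT.l (Ty.srel [nat_lit 8, nat_lit 0, nat_lit 9]))
 (TT.l (Ty.srel [nat_lit 5, nat_lit 3, nat_lit 5, nat_lit 3]))))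
 (TT.n (TT.n (TT.l (Ty.rel3 (nat_lit 9) (nat_lit 0) (nat_lit 8)))
 (TT.l (Ty.relL (nat_lit 10) [nat_lit 5, nat_lit 11, nat_lit 5])))
 (TT.l (Ty.relL (nat_lit 5) [nat_lit 1, nat_lit 5, nat_lit 1]))))
 (TT.n (TT.n (TT.n (TT.l (Ty.rel3 (nat_lit 3) (nat_lit 0) (nat_lit 3)))
 (TT.l (Ty.relL (nat_lit 4) [nat_lit 5, nat_lit 4, nat_lit 5])))
 (TT.n (TT.l (Ty.relL (nat_lit 4) [nat_lit 2, nat_lit 4, nat_lit 2]))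
 (TT.l (Ty.srel [nat_lit 5, nat_lit 1, nat_lit 5, nat_lit 1]))))
 (TT.n (TT.n (TT.l (Ty.srel [nat_lit 12, nat_lit 6, nat_lit 12]))
 (TT.l (Ty.srel [nat_lit 9, nat_lit 0, nat_lit 8])))
 (TT.l (Ty.relL (nat_lit 2) [nat_lit 4, nat_lit 2, nat_lit 4])))))))
noncomputable def ty1 : TT := (TT.n (TT.n (TT.n (TT.n (TT.n (TT.n (TT.l (Ty.ssub [] []))
 (TT.l (Ty.srel [nat_lit 6, nat_lit 2, nat_lit 6])))
 (TT.n (TT.l (Ty.relL (nat_lit 2) [nat_lit 1, nat_lit 2, nat_lit 0]))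
 (TT.l (Ty.skip))))
 (TT.n (TT.n (TT.l (Ty.relL (nat_lit 3) [nat_lit 0, nat_lit 1, nat_lit 3]))
 (TT.l (Ty.srel [nat_lit 0, nat_lit 2, nat_lit 1, nat_lit 2])))
 (TT.l (Ty.srel [nat_lit 2, nat_lit 0, nat_lit 1, nat_lit 2]))))
 (TT.n (TT.n (TT.n (TT.l (Ty.dfn))
 (TT.l (Ty.srel [nat_lit 2, nat_lit 1, nat_lit 2, nat_lit 0])))
 (TT.l (Ty.srel [nat_lit 5, nat_lit 0, nat_lit 1, nat_lit 5])))
 (TT.n (TT.n (TT.l (Ty.relL (nat_lit 5) [nat_lit 0, nat_lit 1, nat_lit 5]))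
 (TT.l (Ty.srel [nat_lit 0, nat_lit 3, nat_lit 1, nat_lit 3])))
 (TT.l (Ty.srel [nat_lit 9, nat_lit 2, nat_lit 8])))))
 (TT.n (TT.n (TT.n (TT.n (TT.l (Ty.rel1 (nat_lit 1)))
 (TT.l (Ty.srel [nat_lit 4, nat_lit 1, nat_lit 4, nat_lit 0])))
 (TT.l (Ty.relL (nat_lit 3) [nat_lit 1, nat_lit 0, nat_lit 3])))
 (TT.n (TT.n (TT.l (Ty.rel3 (nat_lit 9) (nat_lit 2) (nat_lit 8)))
 (TT.l (Ty.srel [nat_lit 5, nat_lit 1, nat_lit 0, nat_lit 5])))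
 (TT.l (Ty.srel [nat_lit 5, nat_lit 1, nat_lit 5, nat_lit 0]))))
 (TT.n (TT.n (TT.n (TT.l (Ty.srel [nat_lit 1]))
 (TT.l (Ty.srel [nat_lit 2, nat_lit 3, nat_lit 4, nat_lit 5])))
 (TT.l (Ty.relL (nat_lit 5) [nat_lit 1, nat_lit 5, nat_lit 0])))
 (TT.n (TT.n (TT.l (Ty.relL (nat_lit 4) [nat_lit 1, nat_lit 4, nat_lit 0]))
 (TT.l (Ty.srel [nat_lit 3, nat_lit 1, nat_lit 0, nat_lit 3])))
 (TT.l (Ty.relL (nat_lit 5) [nat_lit 1, nat_lit 0, nat_lit 5]))))))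
 (TT.n (TT.n (TT.n (TT.n (TT.n (TT.l (Ty.relL (nat_lit 2) [nat_lit 3, nat_lit 4, nat_lit 5]))
 (TT.l (Ty.srel [nat_lit 0, nat_lit 4, nat_lit 1, nat_lit 4])))
 (TT.l (Ty.relL (nat_lit 0) [nat_lit 3, nat_lit 1, nat_lit 3])))
 (TT.n (TT.n (TT.l (Ty.relL (nat_lit 4) [nat_lit 0, nat_lit 1, nat_lit 4]))
 (TT.l (Ty.srel [nat_lit 3, nat_lit 1, nat_lit 3, nat_lit 0])))
 (TT.l (Ty.srel [nat_lit 4, nat_lit 0, nat_lit 1, nat_lit 4]))))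
 (TT.n (TT.n (TT.n (TT.l (Ty.rel3 (nat_lit 6) (nat_lit 2) (nat_lit 6)))
 (TT.l (Ty.relL (nat_lit 4) [nat_lit 1, nat_lit 0, nat_lit 4])))
 (TT.l (Ty.relL (nat_lit 0) [nat_lit 4, nat_lit 1, nat_lit 4])))
 (TT.n (TT.n (TT.l (Ty.srel [nat_lit 5, nat_lit 4, nat_lit 3, nat_lit 2]))
 (TT.l (Ty.srel [nat_lit 2, nat_lit 1, nat_lit 0, nat_lit 2])))
 (TT.l (Ty.relL (nat_lit 0) [nat_lit 5, nat_lit 1, nat_lit 5])))))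
 (TT.n (TT.n (TT.n (TT.n (TT.l (Ty.rel3 (nat_lit 7) (nat_lit 2) (nat_lit 7)))
 (TT.l (Ty.relL (nat_lit 3) [nat_lit 1, nat_lit 3, nat_lit 0])))
 (TT.l (Ty.relL (nat_lit 5) [nat_lit 4, nat_lit 3, nat_lit 2])))
 (TT.n (TT.n (TT.l (Ty.srel [nat_lit 7, nat_lit 2, nat_lit 7]))
 (TT.l (Ty.srel [nat_lit 0, nat_lit 5, nat_lit 1, nat_lit 5])))
 (TT.l (Ty.srel [nat_lit 0, nat_lit 1, nat_lit 0]))))
 (TT.n (TT.n (TT.n (TT.l (Ty.relL (nat_lit 2) [nat_lit 0, nat_lit 1, nat_lit 2]))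
 (TT.l (Ty.relL (nat_lit 2) [nat_lit 1, nat_lit 0, nat_lit 2])))
 (TT.l (Ty.relL (nat_lit 0) [nat_lit 2, nat_lit 1, nat_lit 2])))
 (TT.n (TT.n (TT.l (Ty.rel3 (nat_lit 0) (nat_lit 1) (nat_lit 0)))
 (TT.l (Ty.srel [nat_lit 4, nat_lit 1, nat_lit 0, nat_lit 4])))
 (TT.l (Ty.srel [nat_lit 3, nat_lit 0, nat_lit 1, nat_lit 3])))))))
noncomputable def ty2 : TT := (TT.n (TT.n (TT.n (TT.n (TT.n (TT.n (TT.l (Ty.ssub [] []))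
 (TT.l (Ty.srel [nat_lit 0, nat_lit 2, nat_lit 0])))
 (TT.l (Ty.relL (nat_lit 4) [nat_lit 2, nat_lit 4, nat_lit 0])))
 (TT.n (TT.n (TT.l (Ty.relL (nat_lit 4) [nat_lit 0, nat_lit 2, nat_lit 4]))
 (TT.l (Ty.srel [nat_lit 3, nat_lit 4, nat_lit 5, nat_lit 1])))
 (TT.l (Ty.relL (nat_lit 0) [nat_lit 5, nat_lit 2, nat_lit 5]))))
 (TT.n (TT.n (TT.n (TT.l (Ty.dfn))
 (TT.l (Ty.relL (nat_lit 1) [nat_lit 2, nat_lit 1, nat_lit 0])))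
 (TT.l (Ty.srel [nat_lit 8, nat_lit 1, nat_lit 9])))
 (TT.n (TT.n (TT.l (Ty.srel [nat_lit 7, nat_lit 1, nat_lit 7]))
 (TT.l (Ty.srel [nat_lit 1, nat_lit 2, nat_lit 1, nat_lit 0])))
 (TT.l (Ty.srel [nat_lit 1, nat_lit 5, nat_lit 4, nat_lit 3])))))
 (TT.n (TT.n (TT.n (TT.n (TT.l (Ty.rel3 (nat_lit 9) (nat_lit 3) (nat_lit 8)))
 (TT.l (Ty.relL (nat_lit 5) [nat_lit 2, nat_lit 0, nat_lit 5])))
 (TT.l (Ty.relL (nat_lit 0) [nat_lit 3, nat_lit 2, nat_lit 3])))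
 (TT.n (TT.n (TT.l (Ty.rel3 (nat_lit 8) (nat_lit 1) (nat_lit 9)))
 (TT.l (Ty.relL (nat_lit 1) [nat_lit 0, nat_lit 2, nat_lit 1])))
 (TT.l (Ty.srel [nat_lit 4, nat_lit 2, nat_lit 4, nat_lit 0]))))
 (TT.n (TT.n (TT.n (TT.l (Ty.srel [nat_lit 2]))
 (TT.l (Ty.srel [nat_lit 0, nat_lit 4, nat_lit 2, nat_lit 4])))
 (TT.l (Ty.srel [nat_lit 4, nat_lit 0, nat_lit 2, nat_lit 4])))
 (TT.n (TT.n (TT.l (Ty.relL (nat_lit 5) [nat_lit 0, nat_lit 2, nat_lit 5]))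
 (TT.l (Ty.skip)))
 (TT.l (Ty.srel [nat_lit 1, nat_lit 2, nat_lit 0, nat_lit 1]))))))
 (TT.n (TT.n (TT.n (TT.n (TT.n (TT.l (Ty.rel1 (nat_lit 2)))
 (TT.l (Ty.srel [nat_lit 5, nat_lit 2, nat_lit 5, nat_lit 0])))
 (TT.l (Ty.rel3 (nat_lit 0) (nat_lit 2) (nat_lit 0))))
 (TT.n (TT.n (TT.l (Ty.relL (nat_lit 3) [nat_lit 4, nat_lit 5, nat_lit 1]))
 (TT.l (Ty.srel [nat_lit 0, nat_lit 5, nat_lit 2, nat_lit 5])))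
 (TT.l (Ty.srel [nat_lit 5, nat_lit 0, nat_lit 2, nat_lit 5]))))
 (TT.n (TT.n (TT.n (TT.l (Ty.rel3 (nat_lit 6) (nat_lit 1) (nat_lit 6)))
 (TT.l (Ty.srel [nat_lit 6, nat_lit 1, nat_lit 6])))
 (TT.l (Ty.srel [nat_lit 3, nat_lit 0, nat_lit 2, nat_lit 3])))
 (TT.n (TT.n (TT.l (Ty.relL (nat_lit 5) [nat_lit 2, nat_lit 5, nat_lit 0]))
 (TT.l (Ty.srel [nat_lit 3, nat_lit 2, nat_lit 0, nat_lit 3])))
 (TT.l (Ty.relL (nat_lit 3) [nat_lit 2, nat_lit 0, nat_lit 3])))))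
 (TT.n (TT.n (TT.n (TT.n (TT.l (Ty.rel3 (nat_lit 7) (nat_lit 1) (nat_lit 7)))
 (TT.l (Ty.srel [nat_lit 0, nat_lit 3, nat_lit 2, nat_lit 3])))
 (TT.l (Ty.relL (nat_lit 0) [nat_lit 4, nat_lit 2, nat_lit 4])))
 (TT.n (TT.n (TT.l (Ty.relL (nat_lit 1) [nat_lit 2, nat_lit 0, nat_lit 1]))
 (TT.l (Ty.srel [nat_lit 0, nat_lit 1, nat_lit 2, nat_lit 1])))
 (TT.l (Ty.relL (nat_lit 3) [nat_lit 2, nat_lit 3, nat_lit 0]))))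
 (TT.n (TT.n (TT.n (TT.l (Ty.relL (nat_lit 3) [nat_lit 0, nat_lit 2, nat_lit 3]))
 (TT.l (Ty.relL (nat_lit 4) [nat_lit 2, nat_lit 0, nat_lit 4])))
 (TT.l (Ty.relL (nat_lit 0) [nat_lit 1, nat_lit 2, nat_lit 1])))
 (TT.n (TT.l (Ty.relL (nat_lit 1) [nat_lit 5, nat_lit 4, nat_lit 3]))
 (TT.l (Ty.srel [nat_lit 9, nat_lit 3, nat_lit 8])))))))
noncomputable def ty3 : TT := (TT.n (TT.n (TT.n (TT.n (TT.n (TT.n (TT.l (Ty.ssub [] []))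
 (TT.l (Ty.srel [nat_lit 6, nat_lit 4, nat_lit 6])))
 (TT.l (Ty.relL (nat_lit 0) [nat_lit 4, nat_lit 3, nat_lit 4])))
 (TT.n (TT.n (TT.l (Ty.relL (nat_lit 2) [nat_lit 3, nat_lit 0, nat_lit 2]))
 (TT.l (Ty.relL (nat_lit 4) [nat_lit 3, nat_lit 0, nat_lit 4])))
 (TT.l (Ty.srel [nat_lit 2, nat_lit 0, nat_lit 3, nat_lit 2]))))
 (TT.n (TT.n (TT.n (TT.l (Ty.dfn))
 (TT.l (Ty.relL (nat_lit 2) [nat_lit 3, nat_lit 2, nat_lit 0])))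
 (TT.l (Ty.relL (nat_lit 0) [nat_lit 1, nat_lit 3, nat_lit 1])))
 (TT.n (TT.n (TT.l (Ty.relL (nat_lit 5) [nat_lit 3, nat_lit 5, nat_lit 0]))
 (TT.l (Ty.srel [nat_lit 1, nat_lit 3, nat_lit 1, nat_lit 0])))
 (TT.l (Ty.srel [nat_lit 4, nat_lit 5, nat_lit 1, nat_lit 2])))))
 (TT.n (TT.n (TT.n (TT.n (TT.l (Ty.rel1 (nat_lit 3)))
 (TT.l (Ty.srel [nat_lit 7, nat_lit 3, nat_lit 7])))
 (TT.l (Ty.relL (nat_lit 0) [nat_lit 2, nat_lit 3, nat_lit 2])))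
 (TT.n (TT.n (TT.l (Ty.relL (nat_lit 2) [nat_lit 0, nat_lit 3, nat_lit 2]))
 (TT.l (Ty.relL (nat_lit 5) [nat_lit 3, nat_lit 0, nat_lit 5])))
 (TT.l (Ty.srel [nat_lit 2, nat_lit 1, nat_lit 5, nat_lit 4]))))
 (TT.n (TT.n (TT.n (TT.l (Ty.relL (nat_lit 4) [nat_lit 0, nat_lit 3, nat_lit 4]))
 (TT.l (Ty.srel [nat_lit 2, nat_lit 3, nat_lit 2, nat_lit 0])))
 (TT.l (Ty.srel [nat_lit 5, nat_lit 3, nat_lit 5, nat_lit 0])))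
 (TT.n (TT.n (TT.l (Ty.relL (nat_lit 5) [nat_lit 0, nat_lit 3, nat_lit 5]))
 (TT.l (Ty.srel [nat_lit 4, nat_lit 3, nat_lit 0, nat_lit 4])))
 (TT.l (Ty.srel [nat_lit 0, nat_lit 3, nat_lit 0]))))))
 (TT.n (TT.n (TT.n (TT.n (TT.n (TT.l (Ty.rel3 (nat_lit 6) (nat_lit 4) (nat_lit 6)))
 (TT.l (Ty.relL (nat_lit 1) [nat_lit 3, nat_lit 1, nat_lit 0])))
 (TT.l (Ty.relL (nat_lit 4) [nat_lit 3, nat_lit 4, nat_lit 0])))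
 (TT.n (TT.n (TT.l (Ty.relL (nat_lit 1) [nat_lit 3, nat_lit 0, nat_lit 1]))
 (TT.l (Ty.srel [nat_lit 0, nat_lit 2, nat_lit 3, nat_lit 2])))
 (TT.l (Ty.srel [nat_lit 2, nat_lit 3, nat_lit 0, nat_lit 2]))))
 (TT.n (TT.n (TT.n (TT.l (Ty.relL (nat_lit 4) [nat_lit 5, nat_lit 1, nat_lit 2]))
 (TT.l (Ty.relL (nat_lit 1) [nat_lit 0, nat_lit 3, nat_lit 1])))
 (TT.l (Ty.srel [nat_lit 8, nat_lit 2, nat_lit 9])))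
 (TT.n (TT.n (TT.l (Ty.relL (nat_lit 2) [nat_lit 1, nat_lit 5, nat_lit 4]))
 (TT.l (Ty.srel [nat_lit 5, nat_lit 3, nat_lit 0, nat_lit 5])))
 (TT.l (Ty.srel [nat_lit 5, nat_lit 0, nat_lit 3, nat_lit 5])))))
 (TT.n (TT.n (TT.n (TT.n (TT.l (Ty.rel3 (nat_lit 7) (nat_lit 3) (nat_lit 7)))
 (TT.l (Ty.srel [nat_lit 0, nat_lit 1, nat_lit 3, nat_lit 1])))
 (TT.l (Ty.rel3 (nat_lit 0) (nat_lit 3) (nat_lit 0))))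
 (TT.n (TT.n (TT.l (Ty.srel [nat_lit 3]))
 (TT.l (Ty.srel [nat_lit 0, nat_lit 5, nat_lit 3, nat_lit 5])))
 (TT.l (Ty.srel [nat_lit 1, nat_lit 3, nat_lit 0, nat_lit 1]))))
 (TT.n (TT.n (TT.n (TT.l (Ty.rel3 (nat_lit 8) (nat_lit 2) (nat_lit 9)))
 (TT.l (Ty.srel [nat_lit 0, nat_lit 4, nat_lit 3, nat_lit 4])))
 (TT.l (Ty.relL (nat_lit 0) [nat_lit 5, nat_lit 3, nat_lit 5])))
 (TT.n (TT.n (TT.l (Ty.srel [nat_lit 4, nat_lit 0, nat_lit 3, nat_lit 4]))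
 (TT.l (Ty.skip)))
 (TT.l (Ty.srel [nat_lit 4, nat_lit 3, nat_lit 4, nat_lit 0])))))))
noncomputable def ty4 : TT := (TT.n (TT.n (TT.n (TT.n (TT.n (TT.n (TT.n (TT.l (Ty.ssub [] []))
 (TT.l (Ty.srel [nat_lit 3, nat_lit 2, nat_lit 1, nat_lit 5])))
 (TT.l (Ty.srel [nat_lit 2, nat_lit 4, nat_lit 0, nat_lit 2])))
 (TT.n (TT.l (Ty.relL (nat_lit 5) [nat_lit 4, nat_lit 5, nat_lit 0]))
 (TT.l (Ty.srel [nat_lit 5, nat_lit 4, nat_lit 5, nat_lit 0]))))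
 (TT.n (TT.n (TT.l (Ty.srel [nat_lit 4]))
 (TT.l (Ty.relL (nat_lit 5) [nat_lit 4, nat_lit 0, nat_lit 5])))
 (TT.n (TT.l (Ty.relL (nat_lit 10) [nat_lit 4, nat_lit 10, nat_lit 8]))
 (TT.l (Ty.srel [nat_lit 0, nat_lit 3, nat_lit 4, nat_lit 3])))))
 (TT.n (TT.n (TT.n (TT.n (TT.l (Ty.relL (nat_lit 0) [nat_lit 3, nat_lit 4, nat_lit 3]))
 (TT.l (Ty.srel [nat_lit 0, nat_lit 1, nat_lit 4, nat_lit 1])))
 (TT.l (Ty.srel [nat_lit 3, nat_lit 0, nat_lit 4, nat_lit 3])))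
 (TT.n (TT.l (Ty.relL (nat_lit 5) [nat_lit 0, nat_lit 4, nat_lit 5]))
 (TT.l (Ty.srel [nat_lit 8, nat_lit 4, nat_lit 9]))))
 (TT.n (TT.n (TT.l (Ty.relL (nat_lit 3) [nat_lit 4, nat_lit 0, nat_lit 3]))
 (TT.l (Ty.srel [nat_lit 1, nat_lit 0, nat_lit 4, nat_lit 1])))
 (TT.n (TT.l (Ty.relL (nat_lit 0) [nat_lit 1, nat_lit 4, nat_lit 1]))
 (TT.l (Ty.srel [nat_lit 5, nat_lit 4, nat_lit 0, nat_lit 5]))))))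
 (TT.n (TT.n (TT.n (TT.n (TT.n (TT.l (Ty.relL (nat_lit 11) [nat_lit 4, nat_lit 9, nat_lit 11]))
 (TT.l (Ty.srel [nat_lit 12, nat_lit 4, nat_lit 12, nat_lit 7, nat_lit 8, nat_lit 11, nat_lit 7, nat_lit 8, nat_lit 11, nat_lit 4, nat_lit 9, nat_lit 10, nat_lit 7, nat_lit 9, nat_lit 10, nat_lit 7, nat_lit 12])))
 (TT.l (Ty.relL (nat_lit 12) [nat_lit 7, nat_lit 11, nat_lit 8, nat_lit 7, nat_lit 11, nat_lit 8, nat_lit 4, nat_lit 10, nat_lit 9, nat_lit 7, nat_lit 10, nat_lit 9, nat_lit 7, nat_lit 12, nat_lit 4, nat_lit 12])))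
 (TT.n (TT.l (Ty.srel [nat_lit 7, nat_lit 5, nat_lit 7]))
 (TT.l (Ty.relL (nat_lit 1) [nat_lit 0, nat_lit 4, nat_lit 1]))))
 (TT.n (TT.n (TT.l (Ty.rel3 (nat_lit 8) (nat_lit 4) (nat_lit 9)))
 (TT.l (Ty.srel [nat_lit 5, nat_lit 0, nat_lit 4, nat_lit 5])))
 (TT.n (TT.l (Ty.relL (nat_lit 3) [nat_lit 2, nat_lit 1, nat_lit 5]))
 (TT.l (Ty.srel [nat_lit 2, nat_lit 4, nat_lit 2, nat_lit 0])))))
 (TT.n (TT.n (TT.n (TT.n (TT.l (Ty.rel3 (nat_lit 6) (nat_lit 3) (nat_lit 6)))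
 (TT.l (Ty.skip)))
 (TT.l (Ty.relL (nat_lit 6) [nat_lit 4, nat_lit 12, nat_lit 4, nat_lit 6, nat_lit 4, nat_lit 12, nat_lit 4, nat_lit 6, nat_lit 4, nat_lit 12])))
 (TT.n (TT.l (Ty.rel3 (nat_lit 0) (nat_lit 4) (nat_lit 0)))
 (TT.l (Ty.srel [nat_lit 9, nat_lit 11, nat_lit 4, nat_lit 11]))))
 (TT.n (TT.n (TT.l (Ty.relL (nat_lit 10) [nat_lit 8, nat_lit 4, nat_lit 10]))
 (TT.l (Ty.relL (nat_lit 2) [nat_lit 4, nat_lit 2, nat_lit 0])))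
 (TT.n (TT.l (Ty.relL (nat_lit 9) [nat_lit 11, nat_lit 4, nat_lit 11]))
 (TT.l (Ty.srel [nat_lit 3, nat_lit 4, nat_lit 3, nat_lit 0])))))))
 (TT.n (TT.n (TT.n (TT.n (TT.n (TT.n (TT.l (Ty.rel1 (nat_lit 4)))
 (TT.l (Ty.srel [nat_lit 10, nat_lit 9, nat_lit 7, nat_lit 10, nat_lit 9, nat_lit 7, nat_lit 12, nat_lit 4, nat_lit 12, nat_lit 4, nat_lit 12, nat_lit 7, nat_lit 11, nat_lit 8, nat_lit 7, nat_lit 11, nat_lit 8])))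
 (TT.l (Ty.srel [nat_lit 3, nat_lit 4, nat_lit 0, nat_lit 3])))
 (TT.n (TT.l (Ty.relL (nat_lit 2) [nat_lit 0, nat_lit 4, nat_lit 2]))
 (TT.l (Ty.srel [nat_lit 12, nat_lit 7, nat_lit 11, nat_lit 8, nat_lit 7, nat_lit 11, nat_lit 8, nat_lit 4, nat_lit 10, nat_lit 9, nat_lit 7, nat_lit 10, nat_lit 9, nat_lit 7, nat_lit 12, nat_lit 4, nat_lit 12]))))
 (TT.n (TT.n (TT.l (Ty.rel3 (nat_lit 9) (nat_lit 4) (nat_lit 8)))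
 (TT.l (Ty.srel [nat_lit 6, nat_lit 3, nat_lit 6])))
 (TT.n (TT.l (Ty.srel [nat_lit 1, nat_lit 4, nat_lit 0, nat_lit 1]))
 (TT.l (Ty.relL (nat_lit 12) [nat_lit 7, nat_lit 8, nat_lit 11, nat_lit 7, nat_lit 8, nat_lit 11, nat_lit 4, nat_lit 9, nat_lit 10, nat_lit 7, nat_lit 9, nat_lit 10, nat_lit 7, nat_lit 12, nat_lit 4, nat_lit 12])))))
 (TT.n (TT.n (TT.n (TT.n (TT.l (Ty.dfn))
 (TT.l (Ty.srel [nat_lit 12, nat_lit 7, nat_lit 8, nat_lit 11, nat_lit 7, nat_lit 8, nat_lit 11, nat_lit 4, nat_lit 9, nat_lit 10, nat_lit 7, nat_lit 9, nat_lit 10, nat_lit 7, nat_lit 12, nat_lit 4, nat_lit 12])))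
 (TT.l (Ty.srel [nat_lit 10, nat_lit 8, nat_lit 4, nat_lit 10])))
 (TT.n (TT.l (Ty.relL (nat_lit 12) [nat_lit 4, nat_lit 12, nat_lit 7, nat_lit 11, nat_lit 8, nat_lit 7, nat_lit 11, nat_lit 8, nat_lit 4, nat_lit 10, nat_lit 9, nat_lit 7, nat_lit 10, nat_lit 9, nat_lit 7, nat_lit 12]))
 (TT.l (Ty.srel [nat_lit 0, nat_lit 4, nat_lit 0]))))
 (TT.n (TT.n (TT.l (Ty.relL (nat_lit 1) [nat_lit 4, nat_lit 0, nat_lit 1]))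
 (TT.l (Ty.srel [nat_lit 11, nat_lit 4, nat_lit 9, nat_lit 11])))
 (TT.n (TT.l (Ty.relL (nat_lit 0) [nat_lit 2, nat_lit 4, nat_lit 2]))
 (TT.l (Ty.srel [nat_lit 6, nat_lit 4, nat_lit 12, nat_lit 4, nat_lit 6, nat_lit 4, nat_lit 12, nat_lit 4, nat_lit 6, nat_lit 4, nat_lit 12]))))))
 (TT.n (TT.n (TT.n (TT.n (TT.n (TT.l (Ty.rel3 (nat_lit 7) (nat_lit 5) (nat_lit 7)))
 (TT.l (Ty.relL (nat_lit 12) [nat_lit 4, nat_lit 12, nat_lit 7, nat_lit 8, nat_lit 11, nat_lit 7, nat_lit 8, nat_lit 11, nat_lit 4, nat_lit 9, nat_lit 10, nat_lit 7, nat_lit 9, nat_lit 10, nat_lit 7, nat_lit 12])))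
 (TT.l (Ty.relL (nat_lit 1) [nat_lit 4, nat_lit 1, nat_lit 0])))
 (TT.n (TT.l (Ty.relL (nat_lit 0) [nat_lit 5, nat_lit 4, nat_lit 5]))
 (TT.l (Ty.relL (nat_lit 12) [nat_lit 4, nat_lit 6, nat_lit 4, nat_lit 12, nat_lit 4, nat_lit 6, nat_lit 4, nat_lit 12, nat_lit 4, nat_lit 6]))))
 (TT.n (TT.n (TT.l (Ty.relL (nat_lit 2) [nat_lit 4, nat_lit 0, nat_lit 2]))
 (TT.l (Ty.srel [nat_lit 9, nat_lit 4, nat_lit 8])))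
 (TT.n (TT.l (Ty.srel [nat_lit 5, nat_lit 1, nat_lit 2, nat_lit 3]))
 (TT.l (Ty.srel [nat_lit 0, nat_lit 2, nat_lit 4, nat_lit 2])))))
 (TT.n (TT.n (TT.n (TT.l (Ty.relL (nat_lit 5) [nat_lit 1, nat_lit 2, nat_lit 3]))
 (TT.l (Ty.relL (nat_lit 3) [nat_lit 4, nat_lit 3, nat_lit 0])))
 (TT.n (TT.l (Ty.srel [nat_lit 10, nat_lit 4, nat_lit 10, nat_lit 8]))
 (TT.l (Ty.srel [nat_lit 12, nat_lit 4, nat_lit 12, nat_lit 7, nat_lit 11, nat_lit 8, nat_lit 7, nat_lit 11, nat_lit 8, nat_lit 4, nat_lit 10, nat_lit 9, nat_lit 7, nat_lit 10, nat_lit 9, nat_lit 7, nat_lit 12]))))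
 (TT.n (TT.n (TT.l (Ty.relL (nat_lit 3) [nat_lit 0, nat_lit 4, nat_lit 3]))
 (TT.l (Ty.srel [nat_lit 12, nat_lit 4, nat_lit 6, nat_lit 4, nat_lit 12, nat_lit 4, nat_lit 6, nat_lit 4, nat_lit 12, nat_lit 4, nat_lit 6])))
 (TT.n (TT.l (Ty.srel [nat_lit 0, nat_lit 5, nat_lit 4, nat_lit 5]))
 (TT.l (Ty.srel [nat_lit 1, nat_lit 4, nat_lit 1, nat_lit 0]))))))))
noncomputable def ty5 : TT := (TT.n (TT.n (TT.n (TT.n (TT.n (TT.n (TT.l (Ty.relL (nat_lit 1) [nat_lit 2, nat_lit 3, nat_lit 4]))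
 (TT.l (Ty.relL (nat_lit 0) [nat_lit 4, nat_lit 5, nat_lit 4])))
 (TT.n (TT.l (Ty.relL (nat_lit 3) [nat_lit 0, nat_lit 5, nat_lit 3]))
 (TT.l (Ty.srel [nat_lit 4, nat_lit 5, nat_lit 4, nat_lit 0]))))
 (TT.n (TT.n (TT.l (Ty.relL (nat_lit 4) [nat_lit 5, nat_lit 0, nat_lit 4]))
 (TT.l (Ty.srel [nat_lit 0, nat_lit 10, nat_lit 5, nat_lit 11])))
 (TT.n (TT.l (Ty.srel [nat_lit 1, nat_lit 2, nat_lit 3, nat_lit 4]))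
 (TT.l (Ty.srel [nat_lit 1, nat_lit 0, nat_lit 5, nat_lit 1])))))
 (TT.n (TT.n (TT.n (TT.l (Ty.rel3 (nat_lit 7) (nat_lit 4) (nat_lit 7)))
 (TT.l (Ty.srel [nat_lit 4, nat_lit 0, nat_lit 5, nat_lit 4])))
 (TT.n (TT.l (Ty.relL (nat_lit 0) [nat_lit 2, nat_lit 5, nat_lit 2]))
 (TT.l (Ty.srel [nat_lit 0, nat_lit 4, nat_lit 5, nat_lit 4]))))
 (TT.n (TT.n (TT.l (Ty.dfn))
 (TT.l (Ty.relL (nat_lit 1) [nat_lit 0, nat_lit 5, nat_lit 1])))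
 (TT.l (Ty.srel [nat_lit 4, nat_lit 5, nat_lit 0, nat_lit 4])))))
 (TT.n (TT.n (TT.n (TT.n (TT.l (Ty.rel3 (nat_lit 10) (nat_lit 0) (nat_lit 11)))
 (TT.l (Ty.srel [nat_lit 11, nat_lit 0, nat_lit 5, nat_lit 10])))
 (TT.n (TT.l (Ty.relL (nat_lit 0) [nat_lit 10, nat_lit 5, nat_lit 11]))
 (TT.l (Ty.srel [nat_lit 11, nat_lit 5, nat_lit 0, nat_lit 10]))))
 (TT.n (TT.n (TT.l (Ty.rel3 (nat_lit 0) (nat_lit 5) (nat_lit 0)))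
 (TT.l (Ty.srel [nat_lit 0, nat_lit 1, nat_lit 5, nat_lit 1])))
 (TT.n (TT.l (Ty.srel [nat_lit 2, nat_lit 5, nat_lit 0, nat_lit 2]))
 (TT.l (Ty.skip)))))
 (TT.n (TT.n (TT.n (TT.l (Ty.relL (nat_lit 2) [nat_lit 5, nat_lit 0, nat_lit 2]))
 (TT.l (Ty.srel [nat_lit 7, nat_lit 4, nat_lit 7])))
 (TT.n (TT.l (Ty.srel [nat_lit 6, nat_lit 5, nat_lit 6]))
 (TT.l (Ty.srel [nat_lit 3, nat_lit 5, nat_lit 3, nat_lit 0]))))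
 (TT.n (TT.n (TT.l (Ty.rel3 (nat_lit 9) (nat_lit 5) (nat_lit 8)))
 (TT.l (Ty.srel [nat_lit 1, nat_lit 5, nat_lit 1, nat_lit 0])))
 (TT.l (Ty.relL (nat_lit 4) [nat_lit 3, nat_lit 2, nat_lit 1]))))))
 (TT.n (TT.n (TT.n (TT.n (TT.n (TT.l (Ty.relL (nat_lit 11) [nat_lit 0, nat_lit 5, nat_lit 10]))
 (TT.l (Ty.srel [nat_lit 9, nat_lit 5, nat_lit 8])))
 (TT.n (TT.l (Ty.srel [nat_lit 3, nat_lit 0, nat_lit 5, nat_lit 3]))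
 (TT.l (Ty.relL (nat_lit 10) [nat_lit 5, nat_lit 11, nat_lit 0]))))
 (TT.n (TT.n (TT.l (Ty.rel3 (nat_lit 6) (nat_lit 5) (nat_lit 6)))
 (TT.l (Ty.relL (nat_lit 4) [nat_lit 5, nat_lit 4, nat_lit 0])))
 (TT.n (TT.l (Ty.srel [nat_lit 0, nat_lit 5, nat_lit 0]))
 (TT.l (Ty.srel [nat_lit 0, nat_lit 3, nat_lit 5, nat_lit 3])))))
 (TT.n (TT.n (TT.n (TT.l (Ty.relL (nat_lit 1) [nat_lit 5, nat_lit 0, nat_lit 1]))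
 (TT.l (Ty.srel [nat_lit 10, nat_lit 0, nat_lit 11])))
 (TT.n (TT.l (Ty.relL (nat_lit 0) [nat_lit 3, nat_lit 5, nat_lit 3]))
 (TT.l (Ty.srel [nat_lit 4, nat_lit 3, nat_lit 2, nat_lit 1]))))
 (TT.n (TT.n (TT.l (Ty.rel3 (nat_lit 8) (nat_lit 5) (nat_lit 9)))
 (TT.l (Ty.relL (nat_lit 1) [nat_lit 5, nat_lit 1, nat_lit 0])))
 (TT.l (Ty.srel [nat_lit 1, nat_lit 5, nat_lit 0, nat_lit 1])))))
 (TT.n (TT.n (TT.n (TT.n (TT.l (Ty.rel1 (nat_lit 5)))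
 (TT.l (Ty.relL (nat_lit 2) [nat_lit 5, nat_lit 2, nat_lit 0])))
 (TT.n (TT.l (Ty.relL (nat_lit 0) [nat_lit 1, nat_lit 5, nat_lit 1]))
 (TT.l (Ty.srel [nat_lit 10, nat_lit 5, nat_lit 11, nat_lit 0]))))
 (TT.n (TT.n (TT.l (Ty.srel [nat_lit 5]))
 (TT.l (Ty.relL (nat_lit 2) [nat_lit 0, nat_lit 5, nat_lit 2])))
 (TT.l (Ty.srel [nat_lit 3, nat_lit 5, nat_lit 0, nat_lit 3]))))
 (TT.n (TT.n (TT.n (TT.l (Ty.relL (nat_lit 3) [nat_lit 5, nat_lit 0, nat_lit 3]))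
 (TT.l (Ty.relL (nat_lit 11) [nat_lit 5, nat_lit 0, nat_lit 10])))
 (TT.n (TT.l (Ty.srel [nat_lit 0, nat_lit 2, nat_lit 5, nat_lit 2]))
 (TT.l (Ty.srel [nat_lit 2, nat_lit 0, nat_lit 5, nat_lit 2]))))
 (TT.n (TT.n (TT.l (Ty.relL (nat_lit 4) [nat_lit 0, nat_lit 5, nat_lit 4]))
 (TT.l (Ty.relL (nat_lit 3) [nat_lit 5, nat_lit 3, nat_lit 0])))
 (TT.l (Ty.srel [nat_lit 8, nat_lit 5, nat_lit 9])))))))
noncomputable def ty6 : TT := (TT.n (TT.n (TT.n (TT.n (TT.n (TT.l (Ty.ssub [] []))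
 (TT.l (Ty.srel [nat_lit 10, nat_lit 6, nat_lit 11])))
 (TT.n (TT.l (Ty.srel [nat_lit 6]))
 (TT.l (Ty.srel [nat_lit 9, nat_lit 6, nat_lit 9, nat_lit 6, nat_lit 9]))))
 (TT.n (TT.n (TT.l (Ty.rel1 (nat_lit 6)))
 (TT.l (Ty.srel [nat_lit 3, nat_lit 6, nat_lit 4])))
 (TT.n (TT.l (Ty.rel3 (nat_lit 5) (nat_lit 6) (nat_lit 5)))
 (TT.l (Ty.srel [nat_lit 4, nat_lit 12, nat_lit 4, nat_lit 6, nat_lit 4, nat_lit 12, nat_lit 4, nat_lit 6, nat_lit 4, nat_lit 12, nat_lit 4])))))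
 (TT.n (TT.n (TT.n (TT.l (Ty.rel3 (nat_lit 10) (nat_lit 6) (nat_lit 11)))
 (TT.l (Ty.srel [nat_lit 2, nat_lit 6, nat_lit 1])))
 (TT.n (TT.l (Ty.rel5 (nat_lit 9) (nat_lit 6) (nat_lit 9) (nat_lit 6) (nat_lit 9)))
 (TT.l (Ty.srel [nat_lit 11, nat_lit 6, nat_lit 10]))))
 (TT.n (TT.n (TT.l (Ty.rel3 (nat_lit 3) (nat_lit 6) (nat_lit 4)))
 (TT.l (Ty.srel [nat_lit 0, nat_lit 6, nat_lit 0])))
 (TT.n (TT.l (Ty.srel [nat_lit 12, nat_lit 0, nat_lit 12]))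
 (TT.l (Ty.skip))))))
 (TT.n (TT.n (TT.n (TT.n (TT.l (Ty.rel3 (nat_lit 11) (nat_lit 6) (nat_lit 10)))
 (TT.l (Ty.rel5 (nat_lit 8) (nat_lit 6) (nat_lit 8) (nat_lit 6) (nat_lit 8))))
 (TT.n (TT.l (Ty.rel3 (nat_lit 4) (nat_lit 6) (nat_lit 3)))
 (TT.l (Ty.srel [nat_lit 8, nat_lit 6, nat_lit 8, nat_lit 6, nat_lit 8]))))
 (TT.n (TT.n (TT.l (Ty.rel3 (nat_lit 1) (nat_lit 6) (nat_lit 2)))
 (TT.l (Ty.srel [nat_lit 1, nat_lit 6, nat_lit 2])))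
 (TT.n (TT.l (Ty.srel [nat_lit 4, nat_lit 6, nat_lit 3]))
 (TT.l (Ty.relL (nat_lit 4) [nat_lit 12, nat_lit 4, nat_lit 6, nat_lit 4, nat_lit 12, nat_lit 4, nat_lit 6, nat_lit 4, nat_lit 12, nat_lit 4])))))
 (TT.n (TT.n (TT.n (TT.l (Ty.rel3 (nat_lit 12) (nat_lit 0) (nat_lit 12)))
 (TT.l (Ty.srel [nat_lit 5, nat_lit 6, nat_lit 5])))
 (TT.n (TT.l (Ty.rel3 (nat_lit 0) (nat_lit 6) (nat_lit 0)))
 (TT.l (Ty.srel [nat_lit 7, nat_lit 6, nat_lit 7, nat_lit 6, nat_lit 7]))))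
 (TT.n (TT.n (TT.l (Ty.dfn))
 (TT.l (Ty.rel5 (nat_lit 7) (nat_lit 6) (nat_lit 7) (nat_lit 6) (nat_lit 7))))
 (TT.l (Ty.rel3 (nat_lit 2) (nat_lit 6) (nat_lit 1)))))))
noncomputable def ty7 : TT := (TT.n (TT.n (TT.n (TT.n (TT.n (TT.n (TT.l (Ty.ssub [] []))
 (TT.l (Ty.srel [nat_lit 9, nat_lit 10, nat_lit 7, nat_lit 12, nat_lit 4, nat_lit 12, nat_lit 4, nat_lit 12, nat_lit 7, nat_lit 8, nat_lit 11, nat_lit 7, nat_lit 8, nat_lit 11, nat_lit 4, nat_lit 9, nat_lit 10])))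
 (TT.l (Ty.rel3 (nat_lit 3) (nat_lit 7) (nat_lit 3))))
 (TT.n (TT.l (Ty.rel3 (nat_lit 4) (nat_lit 7) (nat_lit 5)))
 (TT.l (Ty.relL (nat_lit 12) [nat_lit 4, nat_lit 12, nat_lit 4, nat_lit 12, nat_lit 7, nat_lit 11, nat_lit 8, nat_lit 7, nat_lit 11, nat_lit 8, nat_lit 4, nat_lit 10, nat_lit 9, nat_lit 7, nat_lit 10, nat_lit 9]))))
 (TT.n (TT.n (TT.n (TT.l (Ty.rel3 (nat_lit 9) (nat_lit 7) (nat_lit 9)))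
 (TT.l (Ty.srel [nat_lit 8, nat_lit 11, nat_lit 4, nat_lit 9, nat_lit 10, nat_lit 7, nat_lit 9, nat_lit 10, nat_lit 7, nat_lit 12, nat_lit 4, nat_lit 12, nat_lit 4, nat_lit 12, nat_lit 7, nat_lit 8, nat_lit 11])))
 (TT.l (Ty.srel [nat_lit 9, nat_lit 7, nat_lit 9])))
 (TT.n (TT.l (Ty.relL (nat_lit 11) [nat_lit 8, nat_lit 4, nat_lit 10, nat_lit 9, nat_lit 7, nat_lit 10, nat_lit 9, nat_lit 7, nat_lit 12, nat_lit 4, nat_lit 12, nat_lit 4, nat_lit 12, nat_lit 7, nat_lit 11, nat_lit 8]))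
 (TT.l (Ty.srel [nat_lit 12, nat_lit 4, nat_lit 12, nat_lit 4, nat_lit 12, nat_lit 7, nat_lit 11, nat_lit 8, nat_lit 7, nat_lit 11, nat_lit 8, nat_lit 4, nat_lit 10, nat_lit 9, nat_lit 7, nat_lit 10, nat_lit 9])))))
 (TT.n (TT.n (TT.n (TT.n (TT.l (Ty.dfn))
 (TT.l (Ty.relL (nat_lit 12) [nat_lit 4, nat_lit 12, nat_lit 4, nat_lit 12, nat_lit 7, nat_lit 8, nat_lit 11, nat_lit 7, nat_lit 8, nat_lit 11, nat_lit 4, nat_lit 9, nat_lit 10, nat_lit 7, nat_lit 9, nat_lit 10])))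
 (TT.l (Ty.srel [nat_lit 1, nat_lit 7, nat_lit 2])))
 (TT.n (TT.l (Ty.srel [nat_lit 6, nat_lit 7, nat_lit 6, nat_lit 7, nat_lit 6]))
 (TT.l (Ty.srel [nat_lit 0, nat_lit 7, nat_lit 0]))))
 (TT.n (TT.n (TT.n (TT.l (Ty.rel3 (nat_lit 0) (nat_lit 7) (nat_lit 0)))
 (TT.l (Ty.skip)))
 (TT.l (Ty.relL (nat_lit 8) [nat_lit 11, nat_lit 4, nat_lit 9, nat_lit 10, nat_lit 7, nat_lit 9, nat_lit 10, nat_lit 7, nat_lit 12, nat_lit 4, nat_lit 12, nat_lit 4, nat_lit 12, nat_lit 7, nat_lit 8, nat_lit 11])))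
 (TT.n (TT.l (Ty.rel3 (nat_lit 2) (nat_lit 7) (nat_lit 1)))
 (TT.l (Ty.relL (nat_lit 8) [nat_lit 11, nat_lit 7, nat_lit 8, nat_lit 11, nat_lit 4, nat_lit 9, nat_lit 10, nat_lit 7, nat_lit 9, nat_lit 10, nat_lit 7, nat_lit 12, nat_lit 4, nat_lit 12, nat_lit 4, nat_lit 12]))))))
 (TT.n (TT.n (TT.n (TT.n (TT.n (TT.l (Ty.rel1 (nat_lit 7)))
 (TT.l (Ty.srel [nat_lit 10, nat_lit 9, nat_lit 7, nat_lit 12, nat_lit 4, nat_lit 12, nat_lit 4, nat_lit 12, nat_lit 7, nat_lit 11, nat_lit 8, nat_lit 7, nat_lit 11, nat_lit 8, nat_lit 4, nat_lit 10, nat_lit 9])))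
 (TT.l (Ty.srel [nat_lit 2, nat_lit 7, nat_lit 1])))
 (TT.n (TT.l (Ty.relL (nat_lit 11) [nat_lit 8, nat_lit 7, nat_lit 11, nat_lit 8, nat_lit 4, nat_lit 10, nat_lit 9, nat_lit 7, nat_lit 10, nat_lit 9, nat_lit 7, nat_lit 12, nat_lit 4, nat_lit 12, nat_lit 4, nat_lit 12]))
 (TT.l (Ty.srel [nat_lit 5, nat_lit 7, nat_lit 4]))))
 (TT.n (TT.n (TT.n (TT.l (Ty.srel [nat_lit 7]))
 (TT.l (Ty.srel [nat_lit 8, nat_lit 11, nat_lit 7, nat_lit 8, nat_lit 11, nat_lit 4, nat_lit 9, nat_lit 10, nat_lit 7, nat_lit 9, nat_lit 10, nat_lit 7, nat_lit 12, nat_lit 4, nat_lit 12, nat_lit 4, nat_lit 12])))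
 (TT.l (Ty.srel [nat_lit 4, nat_lit 7, nat_lit 5])))
 (TT.n (TT.l (Ty.relL (nat_lit 9) [nat_lit 10, nat_lit 7, nat_lit 12, nat_lit 4, nat_lit 12, nat_lit 4, nat_lit 12, nat_lit 7, nat_lit 8, nat_lit 11, nat_lit 7, nat_lit 8, nat_lit 11, nat_lit 4, nat_lit 9, nat_lit 10]))
 (TT.l (Ty.srel [nat_lit 11, nat_lit 8, nat_lit 7, nat_lit 11, nat_lit 8, nat_lit 4, nat_lit 10, nat_lit 9, nat_lit 7, nat_lit 10, nat_lit 9, nat_lit 7, nat_lit 12, nat_lit 4, nat_lit 12, nat_lit 4, nat_lit 12])))))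
 (TT.n (TT.n (TT.n (TT.n (TT.l (Ty.rel5 (nat_lit 6) (nat_lit 7) (nat_lit 6) (nat_lit 7) (nat_lit 6)))
 (TT.l (Ty.srel [nat_lit 8, nat_lit 7, nat_lit 8])))
 (TT.l (Ty.srel [nat_lit 3, nat_lit 7, nat_lit 3])))
 (TT.n (TT.l (Ty.rel3 (nat_lit 5) (nat_lit 7) (nat_lit 4)))
 (TT.l (Ty.srel [nat_lit 11, nat_lit 8, nat_lit 4, nat_lit 10, nat_lit 9, nat_lit 7, nat_lit 10, nat_lit 9, nat_lit 7, nat_lit 12, nat_lit 4, nat_lit 12, nat_lit 4, nat_lit 12, nat_lit 7, nat_lit 11, nat_lit 8]))))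
 (TT.n (TT.n (TT.l (Ty.rel3 (nat_lit 8) (nat_lit 7) (nat_lit 8)))
 (TT.l (Ty.relL (nat_lit 10) [nat_lit 9, nat_lit 7, nat_lit 12, nat_lit 4, nat_lit 12, nat_lit 4, nat_lit 12, nat_lit 7, nat_lit 11, nat_lit 8, nat_lit 7, nat_lit 11, nat_lit 8, nat_lit 4, nat_lit 10, nat_lit 9])))
 (TT.n (TT.l (Ty.rel3 (nat_lit 1) (nat_lit 7) (nat_lit 2)))
 (TT.l (Ty.srel [nat_lit 12, nat_lit 4, nat_lit 12, nat_lit 4, nat_lit 12, nat_lit 7, nat_lit 8, nat_lit 11, nat_lit 7, nat_lit 8, nat_lit 11, nat_lit 4, nat_lit 9, nat_lit 10, nat_lit 7, nat_lit 9, nat_lit 10])))))))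
noncomputable def ty8 : TT := (TT.n (TT.n (TT.n (TT.n (TT.n (TT.n (TT.l (Ty.ssub [] []))
 (TT.l (Ty.relL (nat_lit 7) [nat_lit 11, nat_lit 8, nat_lit 4, nat_lit 10, nat_lit 9, nat_lit 7, nat_lit 10, nat_lit 9, nat_lit 7, nat_lit 12, nat_lit 4, nat_lit 12, nat_lit 4, nat_lit 12, nat_lit 7, nat_lit 11])))
 (TT.l (Ty.rel3 (nat_lit 0) (nat_lit 9) (nat_lit 0))))
 (TT.n (TT.l (Ty.rel3 (nat_lit 4) (nat_lit 9) (nat_lit 4)))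
 (TT.l (Ty.srel [nat_lit 8, nat_lit 8]))))
 (TT.n (TT.n (TT.l (Ty.rel3 (nat_lit 12) (nat_lit 11) (nat_lit 12)))
 (TT.l (Ty.srel [nat_lit 6, nat_lit 8, nat_lit 6, nat_lit 8, nat_lit 6])))
 (TT.n (TT.l (Ty.srel [nat_lit 1, nat_lit 9, nat_lit 2]))
 (TT.l (Ty.srel [nat_lit 7, nat_lit 11, nat_lit 8, nat_lit 4, nat_lit 10, nat_lit 9, nat_lit 7, nat_lit 10, nat_lit 9, nat_lit 7, nat_lit 12, nat_lit 4, nat_lit 12, nat_lit 4, nat_lit 12, nat_lit 7, nat_lit 11])))))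
 (TT.n (TT.n (TT.n (TT.l (Ty.rel1 (nat_lit 9)))
 (TT.l (Ty.srel [nat_lit 7, nat_lit 8, nat_lit 7])))
 (TT.n (TT.l (Ty.srel [nat_lit 9]))
 (TT.l (Ty.srel [nat_lit 0, nat_lit 9, nat_lit 0]))))
 (TT.n (TT.n (TT.l (Ty.rel3 (nat_lit 1) (nat_lit 9) (nat_lit 2)))
 (TT.l (Ty.srel [nat_lit 5, nat_lit 9, nat_lit 5])))
 (TT.n (TT.l (Ty.srel [nat_lit 2, nat_lit 9, nat_lit 3]))
 (TT.l (Ty.srel [nat_lit 4, nat_lit 10, nat_lit 9, nat_lit 7, nat_lit 10, nat_lit 9, nat_lit 7, nat_lit 12, nat_lit 4, nat_lit 12, nat_lit 4, nat_lit 12, nat_lit 7, nat_lit 11, nat_lit 8, nat_lit 7, nat_lit 11]))))))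
 (TT.n (TT.n (TT.n (TT.n (TT.n (TT.l (Ty.rel3 (nat_lit 11) (nat_lit 9) (nat_lit 10)))
 (TT.l (Ty.skip)))
 (TT.l (Ty.srel [nat_lit 12, nat_lit 11, nat_lit 12])))
 (TT.n (TT.l (Ty.dfn))
 (TT.l (Ty.srel [nat_lit 4, nat_lit 10, nat_lit 4, nat_lit 10]))))
 (TT.n (TT.n (TT.l (Ty.relL (nat_lit 8) [nat_lit 8]))
 (TT.l (Ty.srel [nat_lit 4, nat_lit 9, nat_lit 4])))
 (TT.n (TT.l (Ty.rel3 (nat_lit 5) (nat_lit 9) (nat_lit 5)))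
 (TT.l (Ty.srel [nat_lit 11, nat_lit 7, nat_lit 8, nat_lit 11, nat_lit 4, nat_lit 9, nat_lit 10, nat_lit 7, nat_lit 9, nat_lit 10, nat_lit 7, nat_lit 12, nat_lit 4, nat_lit 12, nat_lit 4, nat_lit 12, nat_lit 7])))))
 (TT.n (TT.n (TT.n (TT.l (Ty.rel3 (nat_lit 7) (nat_lit 8) (nat_lit 7)))
 (TT.l (Ty.relL (nat_lit 4) [nat_lit 10, nat_lit 4, nat_lit 10])))
 (TT.n (TT.l (Ty.rel3 (nat_lit 10) (nat_lit 9) (nat_lit 11)))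
 (TT.l (Ty.srel [nat_lit 10, nat_lit 9, nat_lit 11]))))
 (TT.n (TT.n (TT.l (Ty.rel3 (nat_lit 2) (nat_lit 9) (nat_lit 3)))
 (TT.l (Ty.srel [nat_lit 11, nat_lit 9, nat_lit 10])))
 (TT.n (TT.l (Ty.rel5 (nat_lit 6) (nat_lit 8) (nat_lit 6) (nat_lit 8) (nat_lit 6)))
 (TT.l (Ty.relL (nat_lit 11) [nat_lit 7, nat_lit 8, nat_lit 11, nat_lit 4, nat_lit 9, nat_lit 10, nat_lit 7, nat_lit 9, nat_lit 10, nat_lit 7, nat_lit 12, nat_lit 4, nat_lit 12, nat_lit 4, nat_lit 12, nat_lit 7])))))))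
noncomputable def ty9 : TT := (TT.n (TT.n (TT.n (TT.n (TT.n (TT.n (TT.l (Ty.rel1 (nat_lit 8)))
 (TT.l (Ty.relL (nat_lit 10) [nat_lit 7, nat_lit 12, nat_lit 4, nat_lit 12, nat_lit 4, nat_lit 12, nat_lit 7, nat_lit 8, nat_lit 11, nat_lit 7, nat_lit 8, nat_lit 11, nat_lit 4, nat_lit 9, nat_lit 10, nat_lit 7])))
 (TT.l (Ty.srel [nat_lit 11, nat_lit 8, nat_lit 10])))
 (TT.n (TT.l (Ty.dfn))
 (TT.l (Ty.srel [nat_lit 0, nat_lit 8, nat_lit 0]))))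
 (TT.n (TT.n (TT.l (Ty.rel3 (nat_lit 2) (nat_lit 8) (nat_lit 1)))
 (TT.l (Ty.srel [nat_lit 7, nat_lit 9, nat_lit 7])))
 (TT.n (TT.l (Ty.rel3 (nat_lit 5) (nat_lit 8) (nat_lit 5)))
 (TT.l (Ty.srel [nat_lit 11, nat_lit 4, nat_lit 11, nat_lit 4])))))
 (TT.n (TT.n (TT.n (TT.l (Ty.rel3 (nat_lit 12) (nat_lit 10) (nat_lit 12)))
 (TT.l (Ty.srel [nat_lit 2, nat_lit 8, nat_lit 1])))
 (TT.n (TT.l (Ty.rel3 (nat_lit 11) (nat_lit 8) (nat_lit 10)))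
 (TT.l (Ty.relL (nat_lit 11) [nat_lit 4, nat_lit 11, nat_lit 4]))))
 (TT.n (TT.n (TT.l (Ty.rel3 (nat_lit 4) (nat_lit 8) (nat_lit 4)))
 (TT.l (Ty.srel [nat_lit 6, nat_lit 9, nat_lit 6, nat_lit 9, nat_lit 6])))
 (TT.n (TT.l (Ty.rel5 (nat_lit 6) (nat_lit 9) (nat_lit 6) (nat_lit 9) (nat_lit 6)))
 (TT.l (Ty.relL (nat_lit 7) [nat_lit 10, nat_lit 9, nat_lit 7, nat_lit 12, nat_lit 4, nat_lit 12, nat_lit 4, nat_lit 12, nat_lit 7, nat_lit 11, nat_lit 8, nat_lit 7, nat_lit 11, nat_lit 8, nat_lit 4, nat_lit 10]))))))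
 (TT.n (TT.n (TT.n (TT.n (TT.l (Ty.rel3 (nat_lit 10) (nat_lit 8) (nat_lit 11)))
 (TT.l (Ty.srel [nat_lit 3, nat_lit 8, nat_lit 2])))
 (TT.n (TT.l (Ty.srel [nat_lit 8]))
 (TT.l (Ty.srel [nat_lit 10, nat_lit 7, nat_lit 12, nat_lit 4, nat_lit 12, nat_lit 4, nat_lit 12, nat_lit 7, nat_lit 8, nat_lit 11, nat_lit 7, nat_lit 8, nat_lit 11, nat_lit 4, nat_lit 9, nat_lit 10, nat_lit 7]))))
 (TT.n (TT.n (TT.l (Ty.rel3 (nat_lit 3) (nat_lit 8) (nat_lit 2)))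
 (TT.l (Ty.srel [nat_lit 10, nat_lit 8, nat_lit 11])))
 (TT.n (TT.l (Ty.srel [nat_lit 12, nat_lit 10, nat_lit 12]))
 (TT.l (Ty.srel [nat_lit 7, nat_lit 12, nat_lit 4, nat_lit 12, nat_lit 4, nat_lit 12, nat_lit 7, nat_lit 11, nat_lit 8, nat_lit 7, nat_lit 11, nat_lit 8, nat_lit 4, nat_lit 10, nat_lit 9, nat_lit 7, nat_lit 10])))))
 (TT.n (TT.n (TT.n (TT.l (Ty.relL (nat_lit 9) [nat_lit 9]))
 (TT.l (Ty.srel [nat_lit 4, nat_lit 8, nat_lit 4])))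
 (TT.n (TT.l (Ty.rel3 (nat_lit 0) (nat_lit 8) (nat_lit 0)))
 (TT.l (Ty.srel [nat_lit 7, nat_lit 10, nat_lit 9, nat_lit 7, nat_lit 12, nat_lit 4, nat_lit 12, nat_lit 4, nat_lit 12, nat_lit 7, nat_lit 11, nat_lit 8, nat_lit 7, nat_lit 11, nat_lit 8, nat_lit 4, nat_lit 10]))))
 (TT.n (TT.n (TT.l (Ty.rel3 (nat_lit 7) (nat_lit 9) (nat_lit 7)))
 (TT.l (Ty.srel [nat_lit 5, nat_lit 8, nat_lit 5])))
 (TT.n (TT.l (Ty.srel [nat_lit 9, nat_lit 9]))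
 (TT.l (Ty.skip)))))))
noncomputable def ty10 : TT := (TT.n (TT.n (TT.n (TT.n (TT.n (TT.l (Ty.rel1 (nat_lit 11)))
 (TT.l (Ty.srel [nat_lit 12, nat_lit 9, nat_lit 12])))
 (TT.n (TT.l (Ty.rel3 (nat_lit 6) (nat_lit 11) (nat_lit 6)))
 (TT.l (Ty.srel [nat_lit 5, nat_lit 11, nat_lit 5, nat_lit 0]))))
 (TT.n (TT.n (TT.l (Ty.rel3 (nat_lit 8) (nat_lit 11) (nat_lit 9)))
 (TT.l (Ty.srel [nat_lit 6, nat_lit 11, nat_lit 6])))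
 (TT.n (TT.l (Ty.srel [nat_lit 9, nat_lit 11, nat_lit 8]))
 (TT.l (Ty.srel [nat_lit 7, nat_lit 9, nat_lit 10, nat_lit 7, nat_lit 12, nat_lit 4, nat_lit 12, nat_lit 4, nat_lit 12, nat_lit 7, nat_lit 8, nat_lit 11, nat_lit 7, nat_lit 8, nat_lit 11, nat_lit 4, nat_lit 9])))))
 (TT.n (TT.n (TT.n (TT.l (Ty.rel3 (nat_lit 12) (nat_lit 9) (nat_lit 12)))
 (TT.l (Ty.srel [nat_lit 8, nat_lit 11, nat_lit 9])))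
 (TT.n (TT.l (Ty.rel3 (nat_lit 0) (nat_lit 11) (nat_lit 5)))
 (TT.l (Ty.relL (nat_lit 7) [nat_lit 12, nat_lit 4, nat_lit 12, nat_lit 4, nat_lit 12, nat_lit 7, nat_lit 8, nat_lit 11, nat_lit 7, nat_lit 8, nat_lit 11, nat_lit 4, nat_lit 9, nat_lit 10, nat_lit 7, nat_lit 9]))))
 (TT.n (TT.n (TT.l (Ty.relL (nat_lit 4) [nat_lit 10, nat_lit 8, nat_lit 4]))
 (TT.l (Ty.srel [nat_lit 10, nat_lit 10])))
 (TT.n (TT.l (Ty.srel [nat_lit 0, nat_lit 11, nat_lit 5]))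
 (TT.l (Ty.relL (nat_lit 9) [nat_lit 7, nat_lit 10, nat_lit 9, nat_lit 7, nat_lit 12, nat_lit 4, nat_lit 12, nat_lit 4, nat_lit 12, nat_lit 7, nat_lit 11, nat_lit 8, nat_lit 7, nat_lit 11, nat_lit 8, nat_lit 4]))))))
 (TT.n (TT.n (TT.n (TT.n (TT.l (Ty.dfn))
 (TT.l (Ty.srel [nat_lit 5, nat_lit 11, nat_lit 0, nat_lit 5])))
 (TT.n (TT.l (Ty.relL (nat_lit 5) [nat_lit 11, nat_lit 0, nat_lit 5]))
 (TT.l (Ty.srel [nat_lit 7, nat_lit 12, nat_lit 4, nat_lit 12, nat_lit 4, nat_lit 12, nat_lit 7, nat_lit 8, nat_lit 11, nat_lit 7, nat_lit 8, nat_lit 11, nat_lit 4, nat_lit 9, nat_lit 10, nat_lit 7, nat_lit 9]))))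
 (TT.n (TT.n (TT.l (Ty.relL (nat_lit 10) [nat_lit 10]))
 (TT.l (Ty.relL (nat_lit 9) [nat_lit 7, nat_lit 12, nat_lit 4, nat_lit 12, nat_lit 4, nat_lit 12, nat_lit 7, nat_lit 11, nat_lit 8, nat_lit 7, nat_lit 11, nat_lit 8, nat_lit 4, nat_lit 10, nat_lit 9, nat_lit 7])))
 (TT.n (TT.l (Ty.relL (nat_lit 8) [nat_lit 4, nat_lit 10, nat_lit 4]))
 (TT.l (Ty.srel [nat_lit 9, nat_lit 7, nat_lit 10, nat_lit 9, nat_lit 7, nat_lit 12, nat_lit 4, nat_lit 12, nat_lit 4, nat_lit 12, nat_lit 7, nat_lit 11, nat_lit 8, nat_lit 7, nat_lit 11, nat_lit 8, nat_lit 4])))))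
 (TT.n (TT.n (TT.n (TT.l (Ty.rel3 (nat_lit 9) (nat_lit 11) (nat_lit 8)))
 (TT.l (Ty.srel [nat_lit 8, nat_lit 4, nat_lit 10, nat_lit 4])))
 (TT.n (TT.l (Ty.relL (nat_lit 5) [nat_lit 11, nat_lit 5, nat_lit 0]))
 (TT.l (Ty.relL (nat_lit 7) [nat_lit 9, nat_lit 10, nat_lit 7, nat_lit 12, nat_lit 4, nat_lit 12, nat_lit 4, nat_lit 12, nat_lit 7, nat_lit 8, nat_lit 11, nat_lit 7, nat_lit 8, nat_lit 11, nat_lit 4, nat_lit 9]))))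
 (TT.n (TT.n (TT.l (Ty.srel [nat_lit 11]))
 (TT.l (Ty.srel [nat_lit 9, nat_lit 7, nat_lit 12, nat_lit 4, nat_lit 12, nat_lit 4, nat_lit 12, nat_lit 7, nat_lit 11, nat_lit 8, nat_lit 7, nat_lit 11, nat_lit 8, nat_lit 4, nat_lit 10, nat_lit 9, nat_lit 7])))
 (TT.n (TT.l (Ty.srel [nat_lit 4, nat_lit 10, nat_lit 8, nat_lit 4]))
 (TT.l (Ty.skip)))))))
noncomputable def ty11 : TT := (TT.n (TT.n (TT.n (TT.n (TT.n (TT.l (Ty.rel1 (nat_lit 10)))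
 (TT.l (Ty.srel [nat_lit 9, nat_lit 10, nat_lit 8])))
 (TT.n (TT.l (Ty.relL (nat_lit 4) [nat_lit 11, nat_lit 4, nat_lit 9]))
 (TT.l (Ty.relL (nat_lit 8) [nat_lit 7, nat_lit 11, nat_lit 8, nat_lit 4, nat_lit 10, nat_lit 9, nat_lit 7, nat_lit 10, nat_lit 9, nat_lit 7, nat_lit 12, nat_lit 4, nat_lit 12, nat_lit 4, nat_lit 12, nat_lit 7]))))
 (TT.n (TT.n (TT.l (Ty.rel3 (nat_lit 9) (nat_lit 10) (nat_lit 8)))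
 (TT.l (Ty.relL (nat_lit 5) [nat_lit 0, nat_lit 10, nat_lit 5])))
 (TT.n (TT.l (Ty.srel [nat_lit 11, nat_lit 11]))
 (TT.l (Ty.srel [nat_lit 8, nat_lit 4, nat_lit 10, nat_lit 9, nat_lit 7, nat_lit 10, nat_lit 9, nat_lit 7, nat_lit 12, nat_lit 4, nat_lit 12, nat_lit 4, nat_lit 12, nat_lit 7, nat_lit 11, nat_lit 8, nat_lit 7])))))
 (TT.n (TT.n (TT.n (TT.l (Ty.relL (nat_lit 11) [nat_lit 11]))
 (TT.l (Ty.srel [nat_lit 4, nat_lit 11, nat_lit 4, nat_lit 9])))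
 (TT.n (TT.l (Ty.rel3 (nat_lit 5) (nat_lit 10) (nat_lit 0)))
 (TT.l (Ty.srel [nat_lit 7, nat_lit 8, nat_lit 11, nat_lit 4, nat_lit 9, nat_lit 10, nat_lit 7, nat_lit 9, nat_lit 10, nat_lit 7, nat_lit 12, nat_lit 4, nat_lit 12, nat_lit 4, nat_lit 12, nat_lit 7, nat_lit 8]))))
 (TT.n (TT.n (TT.l (Ty.srel [nat_lit 10]))
 (TT.l (Ty.relL (nat_lit 8) [nat_lit 4, nat_lit 10, nat_lit 9, nat_lit 7, nat_lit 10, nat_lit 9, nat_lit 7, nat_lit 12, nat_lit 4, nat_lit 12, nat_lit 4, nat_lit 12, nat_lit 7, nat_lit 11, nat_lit 8, nat_lit 7])))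
 (TT.n (TT.l (Ty.srel [nat_lit 5, nat_lit 10, nat_lit 0]))
 (TT.l (Ty.skip))))))
 (TT.n (TT.n (TT.n (TT.n (TT.l (Ty.dfn))
 (TT.l (Ty.srel [nat_lit 8, nat_lit 10, nat_lit 9])))
 (TT.n (TT.l (Ty.rel3 (nat_lit 12) (nat_lit 8) (nat_lit 12)))
 (TT.l (Ty.srel [nat_lit 8, nat_lit 7, nat_lit 11, nat_lit 8, nat_lit 4, nat_lit 10, nat_lit 9, nat_lit 7, nat_lit 10, nat_lit 9, nat_lit 7, nat_lit 12, nat_lit 4, nat_lit 12, nat_lit 4, nat_lit 12, nat_lit 7]))))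
 (TT.n (TT.n (TT.l (Ty.rel3 (nat_lit 8) (nat_lit 10) (nat_lit 9)))
 (TT.l (Ty.srel [nat_lit 4, nat_lit 9, nat_lit 11, nat_lit 4])))
 (TT.n (TT.l (Ty.srel [nat_lit 12, nat_lit 8, nat_lit 12]))
 (TT.l (Ty.srel [nat_lit 4, nat_lit 9, nat_lit 10, nat_lit 7, nat_lit 9, nat_lit 10, nat_lit 7, nat_lit 12, nat_lit 4, nat_lit 12, nat_lit 4, nat_lit 12, nat_lit 7, nat_lit 8, nat_lit 11, nat_lit 7, nat_lit 8])))))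
 (TT.n (TT.n (TT.n (TT.l (Ty.rel3 (nat_lit 6) (nat_lit 10) (nat_lit 6)))
 (TT.l (Ty.srel [nat_lit 6, nat_lit 10, nat_lit 6])))
 (TT.n (TT.l (Ty.relL (nat_lit 0) [nat_lit 5, nat_lit 10, nat_lit 5]))
 (TT.l (Ty.relL (nat_lit 7) [nat_lit 8, nat_lit 11, nat_lit 4, nat_lit 9, nat_lit 10, nat_lit 7, nat_lit 9, nat_lit 10, nat_lit 7, nat_lit 12, nat_lit 4, nat_lit 12, nat_lit 4, nat_lit 12, nat_lit 7, nat_lit 8]))))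
 (TT.n (TT.n (TT.l (Ty.relL (nat_lit 4) [nat_lit 9, nat_lit 11, nat_lit 4]))
 (TT.l (Ty.srel [nat_lit 5, nat_lit 0, nat_lit 10, nat_lit 5])))
 (TT.l (Ty.srel [nat_lit 0, nat_lit 5, nat_lit 10, nat_lit 5]))))))
noncomputable def ty12 : TT := (TT.n (TT.n (TT.n (TT.n (TT.n (TT.l (Ty.rel1 (nat_lit 12)))
 (TT.l (Ty.srel [nat_lit 9, nat_lit 12, nat_lit 10])))
 (TT.n (TT.l (Ty.rel3 (nat_lit 6) (nat_lit 12) (nat_lit 0)))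
 (TT.l (Ty.srel [nat_lit 0, nat_lit 12, nat_lit 6]))))
 (TT.n (TT.n (TT.l (Ty.rel3 (nat_lit 8) (nat_lit 12) (nat_lit 11)))
 (TT.l (Ty.srel [nat_lit 4, nat_lit 12, nat_lit 7, nat_lit 11, nat_lit 8, nat_lit 7, nat_lit 11, nat_lit 8, nat_lit 4, nat_lit 10, nat_lit 9, nat_lit 7, nat_lit 10, nat_lit 9, nat_lit 7, nat_lit 12, nat_lit 4])))
 (TT.n (TT.l (Ty.relL (nat_lit 7) [nat_lit 11, nat_lit 8, nat_lit 7, nat_lit 11, nat_lit 8, nat_lit 4, nat_lit 10, nat_lit 9, nat_lit 7, nat_lit 10, nat_lit 9, nat_lit 7, nat_lit 12, nat_lit 4, nat_lit 12, nat_lit 4]))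
 (TT.l (Ty.srel [nat_lit 4, nat_lit 12, nat_lit 7, nat_lit 8, nat_lit 11, nat_lit 7, nat_lit 8, nat_lit 11, nat_lit 4, nat_lit 9, nat_lit 10, nat_lit 7, nat_lit 9, nat_lit 10, nat_lit 7, nat_lit 12, nat_lit 4])))))
 (TT.n (TT.n (TT.n (TT.l (Ty.relL (nat_lit 4) [nat_lit 6, nat_lit 4, nat_lit 12, nat_lit 4, nat_lit 6, nat_lit 4, nat_lit 12, nat_lit 4, nat_lit 6, nat_lit 4]))
 (TT.l (Ty.srel [nat_lit 6, nat_lit 12, nat_lit 0])))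
 (TT.n (TT.l (Ty.srel [nat_lit 4, nat_lit 6, nat_lit 4, nat_lit 12, nat_lit 4, nat_lit 6, nat_lit 4, nat_lit 12, nat_lit 4, nat_lit 6, nat_lit 4]))
 (TT.l (Ty.relL (nat_lit 4) [nat_lit 12, nat_lit 4, nat_lit 12, nat_lit 7, nat_lit 8, nat_lit 11, nat_lit 7, nat_lit 8, nat_lit 11, nat_lit 4, nat_lit 9, nat_lit 10, nat_lit 7, nat_lit 9, nat_lit 10, nat_lit 7]))))
 (TT.n (TT.n (TT.l (Ty.srel [nat_lit 12]))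
 (TT.l (Ty.srel [nat_lit 7, nat_lit 11, nat_lit 8, nat_lit 7, nat_lit 11, nat_lit 8, nat_lit 4, nat_lit 10, nat_lit 9, nat_lit 7, nat_lit 10, nat_lit 9, nat_lit 7, nat_lit 12, nat_lit 4, nat_lit 12, nat_lit 4])))
 (TT.l (Ty.srel [nat_lit 4, nat_lit 12, nat_lit 4, nat_lit 12, nat_lit 7, nat_lit 11, nat_lit 8, nat_lit 7, nat_lit 11, nat_lit 8, nat_lit 4, nat_lit 10, nat_lit 9, nat_lit 7, nat_lit 10, nat_lit 9, nat_lit 7])))))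
 (TT.n (TT.n (TT.n (TT.n (TT.l (Ty.dfn))
 (TT.l (Ty.relL (nat_lit 4) [nat_lit 12, nat_lit 4, nat_lit 12, nat_lit 7, nat_lit 11, nat_lit 8, nat_lit 7, nat_lit 11, nat_lit 8, nat_lit 4, nat_lit 10, nat_lit 9, nat_lit 7, nat_lit 10, nat_lit 9, nat_lit 7])))
 (TT.n (TT.l (Ty.srel [nat_lit 10, nat_lit 12, nat_lit 9]))
 (TT.l (Ty.srel [nat_lit 7, nat_lit 8, nat_lit 11, nat_lit 7, nat_lit 8, nat_lit 11, nat_lit 4, nat_lit 9, nat_lit 10, nat_lit 7, nat_lit 9, nat_lit 10, nat_lit 7, nat_lit 12, nat_lit 4, nat_lit 12, nat_lit 4]))))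
 (TT.n (TT.n (TT.l (Ty.rel3 (nat_lit 9) (nat_lit 12) (nat_lit 10)))
 (TT.l (Ty.relL (nat_lit 4) [nat_lit 12, nat_lit 7, nat_lit 8, nat_lit 11, nat_lit 7, nat_lit 8, nat_lit 11, nat_lit 4, nat_lit 9, nat_lit 10, nat_lit 7, nat_lit 9, nat_lit 10, nat_lit 7, nat_lit 12, nat_lit 4])))
 (TT.n (TT.l (Ty.relL (nat_lit 4) [nat_lit 12, nat_lit 7, nat_lit 11, nat_lit 8, nat_lit 7, nat_lit 11, nat_lit 8, nat_lit 4, nat_lit 10, nat_lit 9, nat_lit 7, nat_lit 10, nat_lit 9, nat_lit 7, nat_lit 12, nat_lit 4]))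
 (TT.l (Ty.skip)))))
 (TT.n (TT.n (TT.n (TT.l (Ty.rel3 (nat_lit 10) (nat_lit 12) (nat_lit 9)))
 (TT.l (Ty.srel [nat_lit 8, nat_lit 12, nat_lit 11])))
 (TT.n (TT.l (Ty.rel3 (nat_lit 0) (nat_lit 12) (nat_lit 6)))
 (TT.l (Ty.relL (nat_lit 7) [nat_lit 8, nat_lit 11, nat_lit 7, nat_lit 8, nat_lit 11, nat_lit 4, nat_lit 9, nat_lit 10, nat_lit 7, nat_lit 9, nat_lit 10, nat_lit 7, nat_lit 12, nat_lit 4, nat_lit 12, nat_lit 4]))))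
 (TT.n (TT.n (TT.l (Ty.rel3 (nat_lit 11) (nat_lit 12) (nat_lit 8)))
 (TT.l (Ty.srel [nat_lit 4, nat_lit 12, nat_lit 4, nat_lit 12, nat_lit 7, nat_lit 8, nat_lit 11, nat_lit 7, nat_lit 8, nat_lit 11, nat_lit 4, nat_lit 9, nat_lit 10, nat_lit 7, nat_lit 9, nat_lit 10, nat_lit 7])))
 (TT.l (Ty.srel [nat_lit 11, nat_lit 12, nat_lit 8]))))))
noncomputable def ty13 : TT := (TT.n (TT.n (TT.n (TT.n (TT.n (TT.n (TT.n (TT.n (TT.n (TT.l (Ty.skip))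
 (TT.l (Ty.rel5 (nat_lit 2) (nat_lit 3) (nat_lit 2) (nat_lit 3) (nat_lit 0))))
 (TT.l (Ty.srel [nat_lit 10, nat_lit 5, nat_lit 11, nat_lit 5, nat_lit 0])))
 (TT.n (TT.l (Ty.relL (nat_lit 5) [nat_lit 10, nat_lit 0, nat_lit 11]))
 (TT.l (Ty.rel5 (nat_lit 5) (nat_lit 3) (nat_lit 0) (nat_lit 5) (nat_lit 3)))))
 (TT.n (TT.n (TT.l (Ty.relL (nat_lit 8) [nat_lit 1, nat_lit 9, nat_lit 2]))
 (TT.l (Ty.relL (nat_lit 3) [nat_lit 8, nat_lit 2, nat_lit 9])))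
 (TT.n (TT.l (Ty.relL (nat_lit 12) [nat_lit 7, nat_lit 11, nat_lit 8, nat_lit 7, nat_lit 11, nat_lit 8, nat_lit 4, nat_lit 10, nat_lit 9, nat_lit 7, nat_lit 10, nat_lit 9, nat_lit 7, nat_lit 12, nat_lit 4, nat_lit 12, nat_lit 4]))
 (TT.l (Ty.rel5 (nat_lit 3) (nat_lit 4) (nat_lit 5) (nat_lit 1) (nat_lit 2))))))
 (TT.n (TT.n (TT.n (TT.n (TT.l (Ty.relL (nat_lit 2) [nat_lit 9, nat_lit 3, nat_lit 8]))
 (TT.l (Ty.srel [nat_lit 12, nat_lit 7, nat_lit 8, nat_lit 11, nat_lit 7, nat_lit 8, nat_lit 11, nat_lit 4, nat_lit 9, nat_lit 10, nat_lit 7, nat_lit 9, nat_lit 10, nat_lit 7, nat_lit 12, nat_lit 4, nat_lit 12, nat_lit 4])))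
 (TT.l (Ty.rel5 (nat_lit 4) (nat_lit 2) (nat_lit 4) (nat_lit 0) (nat_lit 2))))
 (TT.n (TT.l (Ty.relL (nat_lit 11) [nat_lit 9, nat_lit 10, nat_lit 8]))
 (TT.l (Ty.rel5 (nat_lit 1) (nat_lit 4) (nat_lit 0) (nat_lit 1) (nat_lit 4)))))
 (TT.n (TT.n (TT.l (Ty.relL (nat_lit 9) [nat_lit 7, nat_lit 9, nat_lit 7]))
 (TT.l (Ty.relL (nat_lit 4) [nat_lit 6, nat_lit 4, nat_lit 12, nat_lit 4, nat_lit 6, nat_lit 4, nat_lit 12, nat_lit 4, nat_lit 6, nat_lit 4, nat_lit 12])))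
 (TT.n (TT.l (Ty.srel [nat_lit 0, nat_lit 7, nat_lit 0, nat_lit 7]))
 (TT.l (Ty.relL (nat_lit 12) [nat_lit 4, nat_lit 12, nat_lit 4, nat_lit 12, nat_lit 7, nat_lit 8, nat_lit 11, nat_lit 7, nat_lit 8, nat_lit 11, nat_lit 4, nat_lit 9, nat_lit 10, nat_lit 7, nat_lit 9, nat_lit 10, nat_lit 7]))))))
 (TT.n (TT.n (TT.n (TT.n (TT.n (TT.l (Ty.relL (nat_lit 2) [nat_lit 6, nat_lit 1, nat_lit 6]))
 (TT.l (Ty.srel [nat_lit 7, nat_lit 3, nat_lit 7, nat_lit 3])))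
 (TT.l (Ty.relL (nat_lit 9) [nat_lit 10, nat_lit 8, nat_lit 11])))
 (TT.n (TT.l (Ty.relL (nat_lit 5) [nat_lit 8, nat_lit 5, nat_lit 9]))
 (TT.l (Ty.rel5 (nat_lit 5) (nat_lit 4) (nat_lit 5) (nat_lit 4) (nat_lit 0)))))
 (TT.n (TT.n (TT.l (Ty.rel5 (nat_lit 1) (nat_lit 0) (nat_lit 2) (nat_lit 1) (nat_lit 2)))
 (TT.l (Ty.relL (nat_lit 4) [nat_lit 12, nat_lit 7, nat_lit 8, nat_lit 11, nat_lit 7, nat_lit 8, nat_lit 11, nat_lit 4, nat_lit 9, nat_lit 10, nat_lit 7, nat_lit 9, nat_lit 10, nat_lit 7, nat_lit 12, nat_lit 4, nat_lit 12])))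
 (TT.n (TT.l (Ty.rel5 (nat_lit 1) (nat_lit 0) (nat_lit 3) (nat_lit 1) (nat_lit 3)))
 (TT.l (Ty.rel5 (nat_lit 4) (nat_lit 0) (nat_lit 5) (nat_lit 4) (nat_lit 5))))))
 (TT.n (TT.n (TT.n (TT.n (TT.l (Ty.relL (nat_lit 6) [nat_lit 9, nat_lit 6, nat_lit 9, nat_lit 6, nat_lit 9]))
 (TT.l (Ty.rel5 (nat_lit 11) (nat_lit 4) (nat_lit 11) (nat_lit 4) (nat_lit 9))))
 (TT.l (Ty.srel [nat_lit 12, nat_lit 6, nat_lit 12, nat_lit 0])))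
 (TT.n (TT.l (Ty.srel [nat_lit 4, nat_lit 0, nat_lit 4, nat_lit 0]))
 (TT.l (Ty.srel [nat_lit 5, nat_lit 0, nat_lit 10, nat_lit 5, nat_lit 11]))))
 (TT.n (TT.n (TT.l (Ty.srel [nat_lit 7, nat_lit 8, nat_lit 11, nat_lit 7, nat_lit 8, nat_lit 11, nat_lit 4, nat_lit 9, nat_lit 10, nat_lit 7, nat_lit 9, nat_lit 10, nat_lit 7, nat_lit 12, nat_lit 4, nat_lit 12, nat_lit 4, nat_lit 12]))
 (TT.l (Ty.relL (nat_lit 4) [nat_lit 12, nat_lit 4, nat_lit 12, nat_lit 7, nat_lit 11, nat_lit 8, nat_lit 7, nat_lit 11, nat_lit 8, nat_lit 4, nat_lit 10, nat_lit 9, nat_lit 7, nat_lit 10, nat_lit 9, nat_lit 7, nat_lit 12])))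
 (TT.n (TT.l (Ty.srel [nat_lit 4, nat_lit 10, nat_lit 8, nat_lit 4, nat_lit 10]))
 (TT.l (Ty.rel5 (nat_lit 0) (nat_lit 5) (nat_lit 2) (nat_lit 5) (nat_lit 2))))))))
 (TT.n (TT.n (TT.n (TT.n (TT.n (TT.n (TT.l (Ty.relL (nat_lit 6) [nat_lit 1, nat_lit 6, nat_lit 2]))
 (TT.l (Ty.srel [nat_lit 10, nat_lit 9, nat_lit 7, nat_lit 12, nat_lit 4, nat_lit 12, nat_lit 4, nat_lit 12, nat_lit 7, nat_lit 11, nat_lit 8, nat_lit 7, nat_lit 11, nat_lit 8, nat_lit 4, nat_lit 10, nat_lit 9, nat_lit 7])))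
 (TT.l (Ty.srel [nat_lit 7, nat_lit 8, nat_lit 7, nat_lit 8])))
 (TT.n (TT.l (Ty.relL (nat_lit 0) [nat_lit 6, nat_lit 0, nat_lit 6]))
 (TT.l (Ty.rel5 (nat_lit 2) (nat_lit 1) (nat_lit 0) (nat_lit 2) (nat_lit 1)))))
 (TT.n (TT.n (TT.l (Ty.relL (nat_lit 12) [nat_lit 0, nat_lit 12, nat_lit 6]))
 (TT.l (Ty.rel5 (nat_lit 5) (nat_lit 4) (nat_lit 3) (nat_lit 2) (nat_lit 1))))
 (TT.n (TT.l (Ty.relL (nat_lit 7) [nat_lit 8, nat_lit 11, nat_lit 7, nat_lit 8, nat_lit 11, nat_lit 4, nat_lit 9, nat_lit 10, nat_lit 7, nat_lit 9, nat_lit 10, nat_lit 7, nat_lit 12, nat_lit 4, nat_lit 12, nat_lit 4, nat_lit 12]))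
 (TT.l (Ty.srel [nat_lit 9, nat_lit 2, nat_lit 8, nat_lit 1])))))
 (TT.n (TT.n (TT.n (TT.n (TT.l (Ty.relL (nat_lit 8) [nat_lit 5, nat_lit 9, nat_lit 5]))
 (TT.l (Ty.srel [nat_lit 1, nat_lit 9, nat_lit 2, nat_lit 8])))
 (TT.l (Ty.relL (nat_lit 10) [nat_lit 12, nat_lit 9, nat_lit 12])))
 (TT.n (TT.l (Ty.relL (nat_lit 7) [nat_lit 5, nat_lit 7, nat_lit 4]))
 (TT.l (Ty.srel [nat_lit 7, nat_lit 4, nat_lit 7, nat_lit 5]))))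
 (TT.n (TT.n (TT.l (Ty.rel5 (nat_lit 4) (nat_lit 1) (nat_lit 0) (nat_lit 4) (nat_lit 1)))
 (TT.l (Ty.srel [nat_lit 9, nat_lit 3, nat_lit 8, nat_lit 2])))
 (TT.n (TT.l (Ty.rel3 (nat_lit 9) (nat_lit 9) (nat_lit 9)))
 (TT.l (Ty.srel [nat_lit 4, nat_lit 12, nat_lit 4, nat_lit 6, nat_lit 4, nat_lit 12, nat_lit 4, nat_lit 6, nat_lit 4, nat_lit 12, nat_lit 4, nat_lit 6]))))))
 (TT.n (TT.n (TT.n (TT.n (TT.n (TT.l (Ty.relL (nat_lit 8) [nat_lit 10, nat_lit 9, nat_lit 11]))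
 (TT.l (Ty.rel5 (nat_lit 2) (nat_lit 5) (nat_lit 2) (nat_lit 5) (nat_lit 0))))
 (TT.l (Ty.relL (nat_lit 12) [nat_lit 7, nat_lit 8, nat_lit 11, nat_lit 7, nat_lit 8, nat_lit 11, nat_lit 4, nat_lit 9, nat_lit 10, nat_lit 7, nat_lit 9, nat_lit 10, nat_lit 7, nat_lit 12, nat_lit 4, nat_lit 12, nat_lit 4])))
 (TT.n (TT.l (Ty.srel [nat_lit 6, nat_lit 12, nat_lit 0, nat_lit 12]))
 (TT.l (Ty.srel [nat_lit 11, nat_lit 8, nat_lit 7, nat_lit 11, nat_lit 8, nat_lit 4, nat_lit 10, nat_lit 9, nat_lit 7, nat_lit 10, nat_lit 9, nat_lit 7, nat_lit 12, nat_lit 4, nat_lit 12, nat_lit 4, nat_lit 12, nat_lit 7]))))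
 (TT.n (TT.n (TT.l (Ty.relL (nat_lit 12) [nat_lit 11, nat_lit 12, nat_lit 8]))
 (TT.l (Ty.rel5 (nat_lit 3) (nat_lit 5) (nat_lit 0) (nat_lit 3) (nat_lit 5))))
 (TT.n (TT.l (Ty.relL (nat_lit 0) [nat_lit 9, nat_lit 0, nat_lit 8]))
 (TT.l (Ty.srel [nat_lit 9, nat_lit 7, nat_lit 12, nat_lit 4, nat_lit 12, nat_lit 4, nat_lit 12, nat_lit 7, nat_lit 11, nat_lit 8, nat_lit 7, nat_lit 11, nat_lit 8, nat_lit 4, nat_lit 10, nat_lit 9, nat_lit 7, nat_lit 10])))))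
 (TT.n (TT.n (TT.n (TT.l (Ty.relL (nat_lit 9) [nat_lit 3, nat_lit 8, nat_lit 2]))
 (TT.l (Ty.rel5 (nat_lit 0) (nat_lit 5) (nat_lit 1) (nat_lit 5) (nat_lit 1))))
 (TT.n (TT.l (Ty.relL (nat_lit 12) [nat_lit 10, nat_lit 12, nat_lit 9]))
 (TT.l (Ty.rel5 (nat_lit 2) (nat_lit 4) (nat_lit 2) (nat_lit 4) (nat_lit 0)))))
 (TT.n (TT.n (TT.l (Ty.srel [nat_lit 1, nat_lit 2, nat_lit 3, nat_lit 4, nat_lit 5]))
 (TT.l (Ty.srel [nat_lit 7, nat_lit 1, nat_lit 7, nat_lit 2])))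
 (TT.n (TT.l (Ty.rel5 (nat_lit 0) (nat_lit 2) (nat_lit 1) (nat_lit 2) (nat_lit 1)))
 (TT.l (Ty.srel [nat_lit 4, nat_lit 12, nat_lit 4, nat_lit 12, nat_lit 7, nat_lit 8, nat_lit 11, nat_lit 7, nat_lit 8, nat_lit 11, nat_lit 4, nat_lit 9, nat_lit 10, nat_lit 7, nat_lit 9, nat_lit 10, nat_lit 7, nat_lit 12]))))))))
 (TT.n (TT.n (TT.n (TT.n (TT.n (TT.n (TT.n (TT.l (Ty.relL (nat_lit 8) [nat_lit 6, nat_lit 8, nat_lit 6, nat_lit 8, nat_lit 6]))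
 (TT.l (Ty.srel [nat_lit 10, nat_lit 12, nat_lit 9, nat_lit 12])))
 (TT.l (Ty.srel [nat_lit 4, nat_lit 12, nat_lit 7, nat_lit 8, nat_lit 11, nat_lit 7, nat_lit 8, nat_lit 11, nat_lit 4, nat_lit 9, nat_lit 10, nat_lit 7, nat_lit 9, nat_lit 10, nat_lit 7, nat_lit 12, nat_lit 4, nat_lit 12])))
 (TT.n (TT.l (Ty.relL (nat_lit 0) [nat_lit 11, nat_lit 5, nat_lit 10]))
 (TT.l (Ty.srel [nat_lit 7, nat_lit 11, nat_lit 8, nat_lit 4, nat_lit 10, nat_lit 9, nat_lit 7, nat_lit 10, nat_lit 9, nat_lit 7, nat_lit 12, nat_lit 4, nat_lit 12, nat_lit 4, nat_lit 12, nat_lit 7, nat_lit 11, nat_lit 8]))))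
 (TT.n (TT.n (TT.l (Ty.relL (nat_lit 4) [nat_lit 6, nat_lit 3, nat_lit 6]))
 (TT.l (Ty.rel5 (nat_lit 4) (nat_lit 3) (nat_lit 4) (nat_lit 0) (nat_lit 3))))
 (TT.n (TT.l (Ty.rel5 (nat_lit 4) (nat_lit 5) (nat_lit 4) (nat_lit 0) (nat_lit 5)))
 (TT.l (Ty.relL (nat_lit 4) [nat_lit 12, nat_lit 7, nat_lit 11, nat_lit 8, nat_lit 7, nat_lit 11, nat_lit 8, nat_lit 4, nat_lit 10, nat_lit 9, nat_lit 7, nat_lit 10, nat_lit 9, nat_lit 7, nat_lit 12, nat_lit 4, nat_lit 12])))))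
 (TT.n (TT.n (TT.n (TT.n (TT.l (Ty.relL (nat_lit 10) [nat_lit 8, nat_lit 11, nat_lit 9]))
 (TT.l (Ty.srel [nat_lit 11, nat_lit 8, nat_lit 4, nat_lit 10, nat_lit 9, nat_lit 7, nat_lit 10, nat_lit 9, nat_lit 7, nat_lit 12, nat_lit 4, nat_lit 12, nat_lit 4, nat_lit 12, nat_lit 7, nat_lit 11, nat_lit 8, nat_lit 7])))
 (TT.l (Ty.relL (nat_lit 9) [nat_lit 4, nat_lit 8, nat_lit 4])))
 (TT.n (TT.l (Ty.rel5 (nat_lit 4) (nat_lit 10) (nat_lit 8) (nat_lit 4) (nat_lit 10)))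
 (TT.l (Ty.rel5 (nat_lit 2) (nat_lit 4) (nat_lit 2) (nat_lit 0) (nat_lit 4)))))
 (TT.n (TT.n (TT.l (Ty.relL (nat_lit 3) [nat_lit 7, nat_lit 3, nat_lit 7]))
 (TT.l (Ty.rel5 (nat_lit 5) (nat_lit 0) (nat_lit 2) (nat_lit 5) (nat_lit 2))))
 (TT.n (TT.l (Ty.srel [nat_lit 12, nat_lit 0, nat_lit 12, nat_lit 6]))
 (TT.l (Ty.srel [nat_lit 5, nat_lit 8, nat_lit 5, nat_lit 9]))))))
 (TT.n (TT.n (TT.n (TT.n (TT.n (TT.l (Ty.srel [nat_lit 4, nat_lit 6, nat_lit 3, nat_lit 6]))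
 (TT.l (Ty.srel [nat_lit 11, nat_lit 4, nat_lit 11, nat_lit 4, nat_lit 9])))
 (TT.l (Ty.srel [nat_lit 12, nat_lit 8, nat_lit 12, nat_lit 11])))
 (TT.n (TT.l (Ty.relL (nat_lit 2) [nat_lit 7, nat_lit 1, nat_lit 7]))
 (TT.l (Ty.relL (nat_lit 0) [nat_lit 3, nat_lit 0, nat_lit 3]))))
 (TT.n (TT.n (TT.l (Ty.rel5 (nat_lit 3) (nat_lit 2) (nat_lit 3) (nat_lit 0) (nat_lit 2)))
 (TT.l (Ty.relL (nat_lit 5) [nat_lit 9, nat_lit 5, nat_lit 8])))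
 (TT.n (TT.l (Ty.srel [nat_lit 1, nat_lit 6, nat_lit 2, nat_lit 6]))
 (TT.l (Ty.rel5 (nat_lit 1) (nat_lit 4) (nat_lit 1) (nat_lit 4) (nat_lit 0))))))
 (TT.n (TT.n (TT.n (TT.l (Ty.rel5 (nat_lit 5) (nat_lit 11) (nat_lit 0) (nat_lit 5) (nat_lit 10)))
 (TT.l (Ty.relL (nat_lit 7) [nat_lit 2, nat_lit 7, nat_lit 1])))
 (TT.n (TT.l (Ty.relL (nat_lit 12) [nat_lit 4, nat_lit 12, nat_lit 7, nat_lit 8, nat_lit 11, nat_lit 7, nat_lit 8, nat_lit 11, nat_lit 4, nat_lit 9, nat_lit 10, nat_lit 7, nat_lit 9, nat_lit 10, nat_lit 7, nat_lit 12, nat_lit 4]))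
 (TT.l (Ty.srel [nat_lit 7, nat_lit 12, nat_lit 4, nat_lit 12, nat_lit 4, nat_lit 12, nat_lit 7, nat_lit 11, nat_lit 8, nat_lit 7, nat_lit 11, nat_lit 8, nat_lit 4, nat_lit 10, nat_lit 9, nat_lit 7, nat_lit 10, nat_lit 9]))))
 (TT.n (TT.n (TT.l (Ty.relL (nat_lit 9) [nat_lit 2, nat_lit 8, nat_lit 1]))
 (TT.l (Ty.rel5 (nat_lit 1) (nat_lit 2) (nat_lit 1) (nat_lit 2) (nat_lit 0))))
 (TT.n (TT.l (Ty.relL (nat_lit 10) [nat_lit 9, nat_lit 7, nat_lit 12, nat_lit 4, nat_lit 12, nat_lit 4, nat_lit 12, nat_lit 7, nat_lit 11, nat_lit 8, nat_lit 7, nat_lit 11, nat_lit 8, nat_lit 4, nat_lit 10, nat_lit 9, nat_lit 7]))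
 (TT.l (Ty.srel [nat_lit 9, nat_lit 11, nat_lit 4, nat_lit 11, nat_lit 4])))))))
 (TT.n (TT.n (TT.n (TT.n (TT.n (TT.n (TT.l (Ty.rel5 (nat_lit 3) (nat_lit 1) (nat_lit 3) (nat_lit 0) (nat_lit 1)))
 (TT.l (Ty.srel [nat_lit 10, nat_lit 6, nat_lit 11, nat_lit 6])))
 (TT.l (Ty.srel [nat_lit 8, nat_lit 6, nat_lit 8, nat_lit 6, nat_lit 8, nat_lit 6])))
 (TT.n (TT.l (Ty.relL (nat_lit 5) [nat_lit 7, nat_lit 4, nat_lit 7]))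
 (TT.l (Ty.srel [nat_lit 10, nat_lit 4, nat_lit 10, nat_lit 8, nat_lit 4]))))
 (TT.n (TT.n (TT.l (Ty.srel [nat_lit 4, nat_lit 12, nat_lit 7, nat_lit 11, nat_lit 8, nat_lit 7, nat_lit 11, nat_lit 8, nat_lit 4, nat_lit 10, nat_lit 9, nat_lit 7, nat_lit 10, nat_lit 9, nat_lit 7, nat_lit 12, nat_lit 4, nat_lit 12]))
 (TT.l (Ty.srel [nat_lit 3, nat_lit 0, nat_lit 3, nat_lit 0])))
 (TT.n (TT.l (Ty.relL (nat_lit 8) [nat_lit 4, nat_lit 9, nat_lit 4]))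
 (TT.l (Ty.srel [nat_lit 12, nat_lit 7, nat_lit 11, nat_lit 8, nat_lit 7, nat_lit 11, nat_lit 8, nat_lit 4, nat_lit 10, nat_lit 9, nat_lit 7, nat_lit 10, nat_lit 9, nat_lit 7, nat_lit 12, nat_lit 4, nat_lit 12, nat_lit 4])))))
 (TT.n (TT.n (TT.n (TT.n (TT.l (Ty.relL (nat_lit 0) [nat_lit 2, nat_lit 0, nat_lit 2]))
 (TT.l (Ty.rel5 (nat_lit 5) (nat_lit 1) (nat_lit 0) (nat_lit 5) (nat_lit 1))))
 (TT.l (Ty.rel5 (nat_lit 2) (nat_lit 3) (nat_lit 4) (nat_lit 5) (nat_lit 1))))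
 (TT.n (TT.l (Ty.relL (nat_lit 7) [nat_lit 8, nat_lit 7, nat_lit 8]))
 (TT.l (Ty.srel [nat_lit 7, nat_lit 12, nat_lit 4, nat_lit 12, nat_lit 4, nat_lit 12, nat_lit 7, nat_lit 8, nat_lit 11, nat_lit 7, nat_lit 8, nat_lit 11, nat_lit 4, nat_lit 9, nat_lit 10, nat_lit 7, nat_lit 9, nat_lit 10]))))
 (TT.n (TT.n (TT.l (Ty.relL (nat_lit 4) [nat_lit 7, nat_lit 5, nat_lit 7]))
 (TT.l (Ty.srel [nat_lit 7, nat_lit 6, nat_lit 7, nat_lit 6, nat_lit 7, nat_lit 6])))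
 (TT.n (TT.l (Ty.relL (nat_lit 10) [nat_lit 0, nat_lit 11, nat_lit 5]))
 (TT.l (Ty.srel [nat_lit 7, nat_lit 9, nat_lit 10, nat_lit 7, nat_lit 12, nat_lit 4, nat_lit 12, nat_lit 4, nat_lit 12, nat_lit 7, nat_lit 8, nat_lit 11, nat_lit 7, nat_lit 8, nat_lit 11, nat_lit 4, nat_lit 9, nat_lit 10]))))))
 (TT.n (TT.n (TT.n (TT.n (TT.n (TT.l (Ty.relL (nat_lit 6) [nat_lit 10, nat_lit 6, nat_lit 11]))
 (TT.l (Ty.relL (nat_lit 5) [nat_lit 0, nat_lit 5, nat_lit 0])))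
 (TT.l (Ty.srel [nat_lit 8, nat_lit 2, nat_lit 9, nat_lit 3])))
 (TT.n (TT.l (Ty.relL (nat_lit 6) [nat_lit 7, nat_lit 6, nat_lit 7, nat_lit 6, nat_lit 7]))
 (TT.l (Ty.rel5 (nat_lit 1) (nat_lit 5) (nat_lit 1) (nat_lit 0) (nat_lit 5)))))
 (TT.n (TT.n (TT.l (Ty.relL (nat_lit 12) [nat_lit 8, nat_lit 12, nat_lit 11]))
 (TT.l (Ty.relL (nat_lit 7) [nat_lit 6, nat_lit 7, nat_lit 6, nat_lit 7, nat_lit 6])))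
 (TT.n (TT.l (Ty.srel [nat_lit 12, nat_lit 4, nat_lit 12, nat_lit 4, nat_lit 12, nat_lit 7, nat_lit 11, nat_lit 8, nat_lit 7, nat_lit 11, nat_lit 8, nat_lit 4, nat_lit 10, nat_lit 9, nat_lit 7, nat_lit 10, nat_lit 9, nat_lit 7]))
 (TT.l (Ty.rel5 (nat_lit 5) (nat_lit 2) (nat_lit 0) (nat_lit 5) (nat_lit 2))))))
 (TT.n (TT.n (TT.n (TT.l (Ty.relL (nat_lit 11) [nat_lit 8, nat_lit 10, nat_lit 9]))
 (TT.l (Ty.srel [nat_lit 0, nat_lit 11, nat_lit 5, nat_lit 10])))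
 (TT.n (TT.l (Ty.srel [nat_lit 4, nat_lit 6, nat_lit 4, nat_lit 12, nat_lit 4, nat_lit 6, nat_lit 4, nat_lit 12, nat_lit 4, nat_lit 6, nat_lit 4, nat_lit 12]))
 (TT.l (Ty.rel5 (nat_lit 9) (nat_lit 11) (nat_lit 4) (nat_lit 11) (nat_lit 4)))))
 (TT.n (TT.n (TT.l (Ty.relL (nat_lit 1) [nat_lit 7, nat_lit 2, nat_lit 7]))
 (TT.l (Ty.srel [nat_lit 8, nat_lit 1, nat_lit 9, nat_lit 2])))
 (TT.n (TT.l (Ty.relL (nat_lit 6) [nat_lit 0, nat_lit 6, nat_lit 0]))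
 (TT.l (Ty.srel [nat_lit 3, nat_lit 2, nat_lit 1, nat_lit 5, nat_lit 4])))))))))
 (TT.n (TT.n (TT.n (TT.n (TT.n (TT.n (TT.n (TT.n (TT.l (Ty.relL (nat_lit 6) [nat_lit 8, nat_lit 6, nat_lit 8, nat_lit 6, nat_lit 8]))
 (TT.l (Ty.srel [nat_lit 7, nat_lit 11, nat_lit 8, nat_lit 7, nat_lit 11, nat_lit 8, nat_lit 4, nat_lit 10, nat_lit 9, nat_lit 7, nat_lit 10, nat_lit 9, nat_lit 7, nat_lit 12, nat_lit 4, nat_lit 12, nat_lit 4, nat_lit 12])))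
 (TT.l (Ty.srel [nat_lit 1, nat_lit 2, nat_lit 0, nat_lit 1, nat_lit 2])))
 (TT.n (TT.l (Ty.srel [nat_lit 9, nat_lit 7, nat_lit 9, nat_lit 7]))
 (TT.l (Ty.rel5 (nat_lit 2) (nat_lit 0) (nat_lit 4) (nat_lit 2) (nat_lit 4)))))
 (TT.n (TT.n (TT.l (Ty.relL (nat_lit 1) [nat_lit 9, nat_lit 2, nat_lit 8]))
 (TT.l (Ty.rel5 (nat_lit 1) (nat_lit 4) (nat_lit 1) (nat_lit 0) (nat_lit 4))))
 (TT.n (TT.l (Ty.rel5 (nat_lit 11) (nat_lit 4) (nat_lit 9) (nat_lit 11) (nat_lit 4)))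
 (TT.l (Ty.relL (nat_lit 9) [nat_lit 0, nat_lit 8, nat_lit 0])))))
 (TT.n (TT.n (TT.n (TT.n (TT.l (Ty.relL (nat_lit 6) [nat_lit 2, nat_lit 6, nat_lit 1]))
 (TT.l (Ty.rel5 (nat_lit 5) (nat_lit 0) (nat_lit 3) (nat_lit 5) (nat_lit 3))))
 (TT.l (Ty.relL (nat_lit 8) [nat_lit 12, nat_lit 11, nat_lit 12])))
 (TT.n (TT.l (Ty.relL (nat_lit 0) [nat_lit 7, nat_lit 0, nat_lit 7]))
 (TT.l (Ty.srel [nat_lit 7, nat_lit 0, nat_lit 7, nat_lit 0]))))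
 (TT.n (TT.n (TT.l (Ty.rel5 (nat_lit 8) (nat_lit 4) (nat_lit 10) (nat_lit 4) (nat_lit 10)))
 (TT.l (Ty.srel [nat_lit 7, nat_lit 9, nat_lit 7, nat_lit 9])))
 (TT.n (TT.l (Ty.srel [nat_lit 5, nat_lit 7, nat_lit 4, nat_lit 7]))
 (TT.l (Ty.srel [nat_lit 2, nat_lit 4, nat_lit 2, nat_lit 4, nat_lit 0]))))))
 (TT.n (TT.n (TT.n (TT.n (TT.n (TT.l (Ty.relL (nat_lit 10) [nat_lit 6, nat_lit 11, nat_lit 6]))
 (TT.l (Ty.rel5 (nat_lit 1) (nat_lit 2) (nat_lit 3) (nat_lit 4) (nat_lit 5))))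
 (TT.l (Ty.srel [nat_lit 6, nat_lit 7, nat_lit 6, nat_lit 7, nat_lit 6, nat_lit 7])))
 (TT.n (TT.l (Ty.relL (nat_lit 3) [nat_lit 6, nat_lit 4, nat_lit 6]))
 (TT.l (Ty.rel5 (nat_lit 4) (nat_lit 10) (nat_lit 4) (nat_lit 10) (nat_lit 8)))))
 (TT.n (TT.n (TT.l (Ty.relL (nat_lit 2) [nat_lit 0, nat_lit 2, nat_lit 0]))
 (TT.l (Ty.srel [nat_lit 10, nat_lit 8, nat_lit 11, nat_lit 9])))
 (TT.n (TT.l (Ty.relL (nat_lit 8) [nat_lit 0, nat_lit 9, nat_lit 0]))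
 (TT.l (Ty.srel [nat_lit 4, nat_lit 10, nat_lit 4, nat_lit 10, nat_lit 8])))))
 (TT.n (TT.n (TT.n (TT.n (TT.l (Ty.relL (nat_lit 0) [nat_lit 12, nat_lit 6, nat_lit 12]))
 (TT.l (Ty.srel [nat_lit 2, nat_lit 1, nat_lit 5, nat_lit 4, nat_lit 3])))
 (TT.l (Ty.relL (nat_lit 11) [nat_lit 5, nat_lit 10, nat_lit 0])))
 (TT.n (TT.l (Ty.relL (nat_lit 9) [nat_lit 12, nat_lit 10, nat_lit 12]))
 (TT.l (Ty.srel [nat_lit 11, nat_lit 12, nat_lit 8, nat_lit 12]))))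
 (TT.n (TT.n (TT.l (Ty.rel5 (nat_lit 3) (nat_lit 2) (nat_lit 0) (nat_lit 3) (nat_lit 2)))
 (TT.l (Ty.relL (nat_lit 9) [nat_lit 6, nat_lit 9, nat_lit 6, nat_lit 9, nat_lit 6])))
 (TT.n (TT.l (Ty.srel [nat_lit 8, nat_lit 7, nat_lit 8, nat_lit 7]))
 (TT.l (Ty.srel [nat_lit 6, nat_lit 9, nat_lit 6, nat_lit 9, nat_lit 6, nat_lit 9])))))))
 (TT.n (TT.n (TT.n (TT.n (TT.n (TT.n (TT.l (Ty.srel [nat_lit 3, nat_lit 6, nat_lit 4, nat_lit 6]))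
 (TT.l (Ty.relL (nat_lit 12) [nat_lit 4, nat_lit 12, nat_lit 4, nat_lit 12, nat_lit 7, nat_lit 11, nat_lit 8, nat_lit 7, nat_lit 11, nat_lit 8, nat_lit 4, nat_lit 10, nat_lit 9, nat_lit 7, nat_lit 10, nat_lit 9, nat_lit 7])))
 (TT.l (Ty.relL (nat_lit 7) [nat_lit 1, nat_lit 7, nat_lit 2])))
 (TT.n (TT.l (Ty.rel5 (nat_lit 3) (nat_lit 0) (nat_lit 1) (nat_lit 3) (nat_lit 1)))
 (TT.l (Ty.rel5 (nat_lit 4) (nat_lit 9) (nat_lit 11) (nat_lit 4) (nat_lit 11)))))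
 (TT.n (TT.n (TT.l (Ty.relL (nat_lit 6) [nat_lit 4, nat_lit 6, nat_lit 3]))
 (TT.l (Ty.srel [nat_lit 12, nat_lit 10, nat_lit 12, nat_lit 9])))
 (TT.n (TT.l (Ty.rel5 (nat_lit 1) (nat_lit 3) (nat_lit 1) (nat_lit 3) (nat_lit 0)))
 (TT.l (Ty.srel [nat_lit 10, nat_lit 0, nat_lit 11, nat_lit 5])))))
 (TT.n (TT.n (TT.n (TT.n (TT.l (Ty.rel5 (nat_lit 0) (nat_lit 5) (nat_lit 10) (nat_lit 5) (nat_lit 11)))
 (TT.l (Ty.srel [nat_lit 6, nat_lit 1, nat_lit 6, nat_lit 2])))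
 (TT.l (Ty.srel [nat_lit 9, nat_lit 12, nat_lit 10, nat_lit 12])))
 (TT.n (TT.l (Ty.rel3 (nat_lit 10) (nat_lit 10) (nat_lit 10)))
 (TT.l (Ty.srel [nat_lit 12, nat_lit 4, nat_lit 12, nat_lit 4, nat_lit 12, nat_lit 7, nat_lit 8, nat_lit 11, nat_lit 7, nat_lit 8, nat_lit 11, nat_lit 4, nat_lit 9, nat_lit 10, nat_lit 7, nat_lit 9, nat_lit 10, nat_lit 7]))))
 (TT.n (TT.n (TT.l (Ty.relL (nat_lit 8) [nat_lit 7, nat_lit 8, nat_lit 7]))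
 (TT.l (Ty.relL (nat_lit 7) [nat_lit 11, nat_lit 8, nat_lit 7, nat_lit 11, nat_lit 8, nat_lit 4, nat_lit 10, nat_lit 9, nat_lit 7, nat_lit 10, nat_lit 9, nat_lit 7, nat_lit 12, nat_lit 4, nat_lit 12, nat_lit 4, nat_lit 12])))
 (TT.n (TT.l (Ty.relL (nat_lit 6) [nat_lit 12, nat_lit 0, nat_lit 12]))
 (TT.l (Ty.relL (nat_lit 4) [nat_lit 8, nat_lit 4, nat_lit 9]))))))
 (TT.n (TT.n (TT.n (TT.n (TT.n (TT.l (Ty.relL (nat_lit 9) [nat_lit 11, nat_lit 8, nat_lit 10]))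
 (TT.l (Ty.srel [nat_lit 3, nat_lit 0, nat_lit 1, nat_lit 3, nat_lit 1])))
 (TT.l (Ty.rel5 (nat_lit 10) (nat_lit 5) (nat_lit 11) (nat_lit 5) (nat_lit 0))))
 (TT.n (TT.l (Ty.srel [nat_lit 11, nat_lit 0, nat_lit 5, nat_lit 10, nat_lit 5]))
 (TT.l (Ty.rel5 (nat_lit 11) (nat_lit 5) (nat_lit 0) (nat_lit 10) (nat_lit 5)))))
 (TT.n (TT.n (TT.l (Ty.rel5 (nat_lit 4) (nat_lit 0) (nat_lit 2) (nat_lit 4) (nat_lit 2)))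
 (TT.l (Ty.srel [nat_lit 12, nat_lit 11, nat_lit 12, nat_lit 8])))
 (TT.n (TT.l (Ty.srel [nat_lit 2, nat_lit 6, nat_lit 1, nat_lit 6]))
 (TT.l (Ty.relL (nat_lit 3) [nat_lit 0, nat_lit 3, nat_lit 0])))))
 (TT.n (TT.n (TT.n (TT.l (Ty.rel3 (nat_lit 8) (nat_lit 8) (nat_lit 8)))
 (TT.l (Ty.relL (nat_lit 6) [nat_lit 3, nat_lit 6, nat_lit 4])))
 (TT.n (TT.l (Ty.relL (nat_lit 12) [nat_lit 6, nat_lit 12, nat_lit 0]))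
 (TT.l (Ty.srel [nat_lit 8, nat_lit 11, nat_lit 4, nat_lit 9, nat_lit 10, nat_lit 7, nat_lit 9, nat_lit 10, nat_lit 7, nat_lit 12, nat_lit 4, nat_lit 12, nat_lit 4, nat_lit 12, nat_lit 7, nat_lit 8, nat_lit 11, nat_lit 7]))))
 (TT.n (TT.n (TT.l (Ty.rel5 (nat_lit 3) (nat_lit 1) (nat_lit 3) (nat_lit 1) (nat_lit 0)))
 (TT.l (Ty.srel [nat_lit 3, nat_lit 7, nat_lit 3, nat_lit 7])))
 (TT.n (TT.l (Ty.rel5 (nat_lit 10) (nat_lit 8) (nat_lit 4) (nat_lit 10) (nat_lit 4)))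
 (TT.l (Ty.srel [nat_lit 8, nat_lit 12, nat_lit 11, nat_lit 12]))))))))
 (TT.n (TT.n (TT.n (TT.n (TT.n (TT.n (TT.n (TT.l (Ty.rel5 (nat_lit 5) (nat_lit 0) (nat_lit 10) (nat_lit 5) (nat_lit 11)))
 (TT.l (Ty.rel5 (nat_lit 0) (nat_lit 4) (nat_lit 2) (nat_lit 4) (nat_lit 2))))
 (TT.l (Ty.srel [nat_lit 6, nat_lit 2, nat_lit 6, nat_lit 1])))
 (TT.n (TT.l (Ty.rel5 (nat_lit 2) (nat_lit 3) (nat_lit 0) (nat_lit 2) (nat_lit 3)))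
 (TT.l (Ty.rel5 (nat_lit 11) (nat_lit 0) (nat_lit 5) (nat_lit 10) (nat_lit 5)))))
 (TT.n (TT.n (TT.l (Ty.relL (nat_lit 6) [nat_lit 11, nat_lit 6, nat_lit 10]))
 (TT.l (Ty.relL (nat_lit 0) [nat_lit 4, nat_lit 0, nat_lit 4])))
 (TT.n (TT.l (Ty.relL (nat_lit 0) [nat_lit 5, nat_lit 0, nat_lit 5]))
 (TT.l (Ty.srel [nat_lit 8, nat_lit 10, nat_lit 9, nat_lit 11])))))
 (TT.n (TT.n (TT.n (TT.n (TT.l (Ty.relL (nat_lit 8) [nat_lit 11, nat_lit 9, nat_lit 10]))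
 (TT.l (Ty.srel [nat_lit 8, nat_lit 4, nat_lit 9, nat_lit 4])))
 (TT.l (Ty.srel [nat_lit 4, nat_lit 1, nat_lit 4, nat_lit 0, nat_lit 1])))
 (TT.n (TT.l (Ty.srel [nat_lit 4, nat_lit 8, nat_lit 4, nat_lit 9]))
 (TT.l (Ty.srel [nat_lit 2, nat_lit 8, nat_lit 1, nat_lit 9]))))
 (TT.n (TT.n (TT.l (Ty.relL (nat_lit 7) [nat_lit 4, nat_lit 7, nat_lit 5]))
 (TT.l (Ty.srel [nat_lit 7, nat_lit 2, nat_lit 7, nat_lit 1])))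
 (TT.n (TT.l (Ty.srel [nat_lit 11, nat_lit 5, nat_lit 10, nat_lit 0]))
 (TT.l (Ty.rel5 (nat_lit 1) (nat_lit 5) (nat_lit 0) (nat_lit 1) (nat_lit 5)))))))
 (TT.n (TT.n (TT.n (TT.n (TT.n (TT.l (Ty.rel5 (nat_lit 5) (nat_lit 11) (nat_lit 5) (nat_lit 0) (nat_lit 10)))
 (TT.l (Ty.srel [nat_lit 7, nat_lit 5, nat_lit 7, nat_lit 4])))
 (TT.l (Ty.srel [nat_lit 0, nat_lit 4, nat_lit 2, nat_lit 4, nat_lit 2])))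
 (TT.n (TT.l (Ty.relL (nat_lit 0) [nat_lit 1, nat_lit 0, nat_lit 1]))
 (TT.l (Ty.rel5 (nat_lit 0) (nat_lit 4) (nat_lit 5) (nat_lit 4) (nat_lit 5)))))
 (TT.n (TT.n (TT.l (Ty.relL (nat_lit 11) [nat_lit 12, nat_lit 8, nat_lit 12]))
 (TT.l (Ty.rel5 (nat_lit 5) (nat_lit 2) (nat_lit 5) (nat_lit 0) (nat_lit 2))))
 (TT.n (TT.l (Ty.rel5 (nat_lit 4) (nat_lit 5) (nat_lit 1) (nat_lit 2) (nat_lit 3)))
 (TT.l (Ty.relL (nat_lit 8) [nat_lit 2, nat_lit 9, nat_lit 3])))))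
 (TT.n (TT.n (TT.n (TT.l (Ty.srel [nat_lit 9, nat_lit 10, nat_lit 8, nat_lit 11]))
 (TT.l (Ty.relL (nat_lit 1) [nat_lit 0, nat_lit 1, nat_lit 0])))
 (TT.n (TT.l (Ty.relL (nat_lit 7) [nat_lit 9, nat_lit 7, nat_lit 9]))
 (TT.l (Ty.rel5 (nat_lit 1) (nat_lit 3) (nat_lit 0) (nat_lit 1) (nat_lit 3)))))
 (TT.n (TT.n (TT.l (Ty.relL (nat_lit 2) [nat_lit 8, nat_lit 1, nat_lit 9]))
 (TT.l (Ty.srel [nat_lit 12, nat_lit 4, nat_lit 6, nat_lit 4, nat_lit 12, nat_lit 4, nat_lit 6, nat_lit 4, nat_lit 12, nat_lit 4, nat_lit 6, nat_lit 4])))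
 (TT.n (TT.l (Ty.rel5 (nat_lit 0) (nat_lit 3) (nat_lit 2) (nat_lit 3) (nat_lit 2)))
 (TT.l (Ty.srel [nat_lit 1, nat_lit 0, nat_lit 4, nat_lit 1, nat_lit 4])))))))
 (TT.n (TT.n (TT.n (TT.n (TT.n (TT.n (TT.l (Ty.relL (nat_lit 1) [nat_lit 6, nat_lit 2, nat_lit 6]))
 (TT.l (Ty.relL (nat_lit 4) [nat_lit 12, nat_lit 4, nat_lit 6, nat_lit 4, nat_lit 12, nat_lit 4, nat_lit 6, nat_lit 4, nat_lit 12, nat_lit 4, nat_lit 6])))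
 (TT.l (Ty.rel5 (nat_lit 4) (nat_lit 11) (nat_lit 4) (nat_lit 9) (nat_lit 11))))
 (TT.n (TT.l (Ty.relL (nat_lit 9) [nat_lit 10, nat_lit 7, nat_lit 12, nat_lit 4, nat_lit 12, nat_lit 4, nat_lit 12, nat_lit 7, nat_lit 8, nat_lit 11, nat_lit 7, nat_lit 8, nat_lit 11, nat_lit 4, nat_lit 9, nat_lit 10, nat_lit 7]))
 (TT.l (Ty.rel5 (nat_lit 4) (nat_lit 5) (nat_lit 0) (nat_lit 4) (nat_lit 5)))))
 (TT.n (TT.n (TT.l (Ty.relL (nat_lit 12) [nat_lit 9, nat_lit 12, nat_lit 10]))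
 (TT.l (Ty.rel5 (nat_lit 5) (nat_lit 4) (nat_lit 0) (nat_lit 5) (nat_lit 4))))
 (TT.n (TT.l (Ty.relL (nat_lit 7) [nat_lit 0, nat_lit 7, nat_lit 0]))
 (TT.l (Ty.relL (nat_lit 4) [nat_lit 9, nat_lit 4, nat_lit 8])))))
 (TT.n (TT.n (TT.n (TT.n (TT.l (Ty.relL (nat_lit 5) [nat_lit 6, nat_lit 5, nat_lit 6]))
 (TT.l (Ty.relL (nat_lit 7) [nat_lit 12, nat_lit 4, nat_lit 12, nat_lit 4, nat_lit 12, nat_lit 7, nat_lit 8, nat_lit 11, nat_lit 7, nat_lit 8, nat_lit 11, nat_lit 4, nat_lit 9, nat_lit 10, nat_lit 7, nat_lit 9, nat_lit 10])))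
 (TT.l (Ty.rel5 (nat_lit 2) (nat_lit 0) (nat_lit 3) (nat_lit 2) (nat_lit 3))))
 (TT.n (TT.l (Ty.relL (nat_lit 0) [nat_lit 8, nat_lit 0, nat_lit 9]))
 (TT.l (Ty.srel [nat_lit 6, nat_lit 4, nat_lit 6, nat_lit 3]))))
 (TT.n (TT.n (TT.l (Ty.relL (nat_lit 7) [nat_lit 3, nat_lit 7, nat_lit 3]))
 (TT.l (Ty.srel [nat_lit 1, nat_lit 7, nat_lit 2, nat_lit 7])))
 (TT.n (TT.l (Ty.srel [nat_lit 0, nat_lit 12, nat_lit 6, nat_lit 12]))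
 (TT.l (Ty.relL (nat_lit 7) [nat_lit 12, nat_lit 4, nat_lit 12, nat_lit 4, nat_lit 12, nat_lit 7, nat_lit 11, nat_lit 8, nat_lit 7, nat_lit 11, nat_lit 8, nat_lit 4, nat_lit 10, nat_lit 9, nat_lit 7, nat_lit 10, nat_lit 9]))))))
 (TT.n (TT.n (TT.n (TT.n (TT.n (TT.l (Ty.relL (nat_lit 6) [nat_lit 5, nat_lit 6, nat_lit 5]))
 (TT.l (Ty.srel [nat_lit 0, nat_lit 6, nat_lit 0, nat_lit 6])))
 (TT.l (Ty.rel5 (nat_lit 5) (nat_lit 10) (nat_lit 5) (nat_lit 11) (nat_lit 0))))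
 (TT.n (TT.l (Ty.rel5 (nat_lit 10) (nat_lit 5) (nat_lit 11) (nat_lit 0) (nat_lit 5)))
 (TT.l (Ty.srel [nat_lit 4, nat_lit 7, nat_lit 5, nat_lit 7]))))
 (TT.n (TT.n (TT.l (Ty.rel5 (nat_lit 10) (nat_lit 4) (nat_lit 10) (nat_lit 8) (nat_lit 4)))
 (TT.l (Ty.rel5 (nat_lit 4) (nat_lit 0) (nat_lit 1) (nat_lit 4) (nat_lit 1))))
 (TT.n (TT.l (Ty.rel5 (nat_lit 2) (nat_lit 5) (nat_lit 0) (nat_lit 2) (nat_lit 5)))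
 (TT.l (Ty.rel5 (nat_lit 5) (nat_lit 4) (nat_lit 5) (nat_lit 0) (nat_lit 4))))))
 (TT.n (TT.n (TT.n (TT.l (Ty.relL (nat_lit 10) [nat_lit 9, nat_lit 11, nat_lit 8]))
 (TT.l (Ty.srel [nat_lit 8, nat_lit 11, nat_lit 7, nat_lit 8, nat_lit 11, nat_lit 4, nat_lit 9, nat_lit 10, nat_lit 7, nat_lit 9, nat_lit 10, nat_lit 7, nat_lit 12, nat_lit 4, nat_lit 12, nat_lit 4, nat_lit 12, nat_lit 7])))
 (TT.n (TT.l (Ty.relL (nat_lit 11) [nat_lit 6, nat_lit 10, nat_lit 6]))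
 (TT.l (Ty.relL (nat_lit 4) [nat_lit 0, nat_lit 4, nat_lit 0]))))
 (TT.n (TT.n (TT.l (Ty.rel5 (nat_lit 1) (nat_lit 0) (nat_lit 4) (nat_lit 1) (nat_lit 4)))
 (TT.l (Ty.relL (nat_lit 8) [nat_lit 11, nat_lit 4, nat_lit 9, nat_lit 10, nat_lit 7, nat_lit 9, nat_lit 10, nat_lit 7, nat_lit 12, nat_lit 4, nat_lit 12, nat_lit 4, nat_lit 12, nat_lit 7, nat_lit 8, nat_lit 11, nat_lit 7])))
 (TT.n (TT.l (Ty.srel [nat_lit 2, nat_lit 9, nat_lit 3, nat_lit 8]))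
 (TT.l (Ty.srel [nat_lit 12, nat_lit 4, nat_lit 12, nat_lit 7, nat_lit 8, nat_lit 11, nat_lit 7, nat_lit 8, nat_lit 11, nat_lit 4, nat_lit 9, nat_lit 10, nat_lit 7, nat_lit 9, nat_lit 10, nat_lit 7, nat_lit 12, nat_lit 4]))))))))))
noncomputable def C : Cert where
  tabs := [tab0, tab1, tab2, tab3, tab4, tab5, tab6, tab7, tab8, tab9, tab10, tab11, tab12, tab13, tab14, tab15, tab16, tab17, tab18, tab19, tab20, tab21, tab22, tab23, tab24, tab25, tab26, tab27, tab28]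
  tts := [ty0, ty1, ty2, ty3, ty4, ty5, ty6, ty7, ty8, ty9, ty10, ty11, ty12, ty13]
  k := nat_lit 8
  base := nat_lit 282
  mJ := nat_lit 32512
  mR := nat_lit 255
  W := nat_lit 36
  mA := nat_lit 67108863
  mI := nat_lit 32767
  S := nat_lit 26
  mC := nat_lit 1023
  nc := nat_lit 13
  lo := nat_lit 256
  live := nat_lit 26419
  hi1 := nat_lit 30850
  AW := nat_lit 21
  mAW := nat_lit 2097151
def il : List ℕ := [0, 1, 2, 3, 4, 5, 6, 7, 9, 8, 11, 10, 12]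
def rels : List (List ℕ) := [[0, 1, 0, 1],
  [0, 2, 0, 2],
  [0, 3, 0, 3],
  [0, 4, 0, 4],
  [0, 5, 0, 5],
  [0, 6, 0, 6],
  [0, 7, 0, 7],
  [0, 9, 0, 8],
  [1, 2, 1, 2, 0],
  [1, 3, 1, 3, 0],
  [1, 4, 1, 4, 0],
  [1, 5, 1, 5, 0],
  [2, 3, 2, 3, 0],
  [2, 4, 2, 4, 0],
  [2, 5, 2, 5, 0],
  [3, 4, 3, 4, 0],
  [3, 5, 3, 5, 0],
  [4, 5, 4, 5, 0],
  [1, 2, 3, 4, 5],
  [6, 1, 6, 2],
  [6, 3, 6, 4],
  [6, 5, 6, 5],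
  [7, 1, 7, 2],
  [7, 3, 7, 3],
  [7, 4, 7, 5],
  [8, 1, 9, 2],
  [8, 2, 9, 3],
  [8, 4, 9, 4],
  [8, 5, 9, 5],
  [8, 8, 8],
  [6, 8, 6, 8, 6, 8],
  [7, 6, 7, 6, 7, 6],
  [7, 8, 7, 8],
  [10, 10, 10],
  [10, 0, 11, 5],
  [10, 5, 11, 0, 5],
  [11, 6, 10, 6],
  [11, 9, 10, 8],
  [4, 10, 4, 10, 8],
  [12, 10, 12, 9],
  [12, 0, 12, 6],
  [12, 4, 6, 4, 12, 4, 6, 4, 12, 4, 6, 4],
  [12, 4, 12, 4, 12, 7, 11, 8, 7, 11, 8, 4, 10, 9, 7, 10, 9, 7]]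
def subs : List (List ℕ) := [[0],
  [1],
  [2],
  [3],
  [4],
  [5],
  [6],
  [7],
  [8]]
theorem valid : C.valid il rels subs = true := by decide +kernel
end CfH6.J3T1
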